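import Mathlib

/-!
# Power sums in characteristic 7 (helper214)
-/

set_option autoImplicit false

namespace Cfsg.Agent.H214.Coef

theorem exists_choose (n : ℕ) : ∀ m, m ≤ (Nat.digits 7 n).sum →
    ∃ e, e ≤ n ∧ ¬ 7 ∣ n.choose e ∧ e % 6 = m % 6 ∧ m ≤ e := by
  induction n using Nat.strong_induction_on with
  | _ n ih =>
    intro m hm
    rcases Nat.eq_zero_or_pos n with rfl | hn
    · simp only [Nat.digits_zero, List.sum_nil, Nat.le_zero] at hm
      subst hm
      exact ⟨0, le_rfl, by norm_num, rfl, le_rfl⟩
    · rw [Nat.digits_def' (by norm_num) hn, List.sum_cons] at hm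
      set m0 := min m (n % 7) with hm0
      have h1 : m - m0 ≤ (Nat.digits 7 (n / 7)).sum := by omega
      obtain ⟨e1, he1, hc, hmod, hle⟩ := ih (n / 7) (Nat.div_lt_self hn (by norm_num)) _ h1
      have hlt : n % 7 < 7 := Nat.mod_lt _ (by norm_num)
      have hm7 : m0 ≤ n % 7 := min_le_right _ _
      have hm1 : m0 ≤ m := min_le_left _ _
      refine ⟨7 * e1 + m0, ?_, ?_, ?_, ?_⟩
      · omega
      · have hp : Fact (Nat.Prime 7) := ⟨by norm_num⟩
        have h2 := Choose.choose_modEq_choose_mod_mul_choose_div_nat (p := 7) (n := n) (k := 7 * e1 + m0)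
        have h3 : (7 * e1 + m0) % 7 = m0 := by omega
        have h4 : (7 * e1 + m0) / 7 = e1 := by omega
        rw [h3, h4] at h2
        intro hd
        have h5 : 7 ∣ (n % 7).choose m0 * (n / 7).choose e1 := (Nat.modEq_zero_iff_dvd.1 (h2.symm.trans
          (Nat.modEq_zero_iff_dvd.2 hd)))
        rcases (Nat.Prime.dvd_mul (by norm_num)).1 h5 with h6 | h6
        · generalize hx : n % 7 = x at *
          generalize m0 = y at *
          clear_value m0
          interval_cases x <;> interval_cases y <;> revert h6 <;> decide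
        · exact hc h6
      · omega
      · omega

theorem pow_of_digits (b : ℕ) : (Nat.digits 7 b).sum = 1 → ∃ i, b = 7 ^ i := by
  induction b using Nat.strong_induction_on with
  | _ b ih =>
    intro h
    rcases Nat.eq_zero_or_pos b with rfl | hb
    · simp at h
    · rw [Nat.digits_def' (by norm_num) hb, List.sum_cons] at h
      rcases Nat.eq_zero_or_pos (b % 7) with h0 | h0
      · obtain ⟨i, hi⟩ := ih (b / 7) (Nat.div_lt_self hb (by norm_num)) (by omega)
        refine ⟨i + 1, ?_⟩
        rw [pow_succ, ← hi]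
        omega
      · have h1 : (Nat.digits 7 (b / 7)).sum = 0 := by omega
        have h2 : b / 7 = 0 := by
          by_contra hne
          have h3 := Nat.modEq_digits_sum 6 7 (by norm_num) (b / 7)
          have h4 : ∀ x ∈ Nat.digits 7 (b / 7), x = 0 := by
            intro x hx
            have := List.single_le_sum (fun _ _ => Nat.zero_le _) x hx
            omega
          have h5 := Nat.getLast_digit_ne_zero 7 hne
          exact h5 (h4 _ (List.getLast_mem _))
        exact ⟨0, by omega⟩

section field

variable {F : Type*} [Field F] [CharP F 7]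

theorem seven : (7 : F) = 0 := by
  have := CharP.cast_eq_zero F 7
  exact_mod_cast this

theorem pow_six (k : ℕ) (h0 : 0 < k) (h7 : k < 7) : (k : F) ^ 6 = 1 := by
  have h := seven (F := F)
  interval_cases k
  · simp
  · push_cast; linear_combination 9 * h
  · push_cast; linear_combination 104 * h
  · push_cast; linear_combination 585 * h
  · push_cast; linear_combination 2232 * h
  · push_cast; linear_combination 6665 * h

theorem sum_pow {e : ℕ} (he : e % 6 = 0) (h0 : 0 < e) : ∑ k ∈ Finset.range 7, (k : F) ^ e = -1 := by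
  obtain ⟨m, rfl⟩ : ∃ m, e = 6 * m := ⟨e / 6, by omega⟩
  have h7 := seven (F := F)
  rw [Finset.sum_range_succ']
  have h1 : ∑ k ∈ Finset.range 6, ((k + 1 : ℕ) : F) ^ (6 * m) = ∑ k ∈ Finset.range 6, (1 : F) := by
    refine Finset.sum_congr rfl fun k hk => ?_
    rw [Finset.mem_range] at hk
    rw [pow_mul, pow_six _ (by omega) (by omega), one_pow]
  rw [h1, Nat.cast_zero, zero_pow (by omega)]
  simp only [Finset.sum_const, Finset.card_range, nsmul_eq_mul, mul_one, add_zero]
  push_cast
  linear_combination h7

theorem digit_sum_le [Fintype F] {b : ℕ} (hb : b < Fintype.card F)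
    (h : ∀ s : F, ∑ k ∈ Finset.range 7, (s + k) ^ b = 0) : (Nat.digits 7 b).sum ≤ 5 := by
  classical
  by_contra hlt
  obtain ⟨e, hle, hc, hmod, h6⟩ := exists_choose b 6 (by omega)
  set P : Polynomial F := ∑ k ∈ Finset.range 7, (Polynomial.X + Polynomial.C (k : F)) ^ b with hP
  have hdeg : P.natDegree ≤ b := by
    refine Polynomial.natDegree_sum_le_of_forall_le _ _ fun k _ => ?_
    refine (Polynomial.natDegree_pow_le).trans ?_
    rw [Polynomial.natDegree_X_add_C, mul_one]
  have hzero : P = 0 := by
    refine Polynomial.eq_zero_of_natDegree_lt_card_of_eval_eq_zero P (f := id) Function.injective_id ?_ ?_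
    · intro s
      rw [hP, Polynomial.eval_finsetSum]
      simpa using h s
    · exact lt_of_le_of_lt hdeg hb
  have h1 := congrArg (fun R : Polynomial F => R.coeff (b - e)) hzero
  simp only [hP, Polynomial.finsetSum_coeff, Polynomial.coeff_X_add_C_pow, Polynomial.coeff_zero] at h1
  have h2 : b - (b - e) = e := by omega
  rw [h2, ← Finset.sum_mul, sum_pow hmod (by omega), Nat.choose_symm hle] at h1
  have h3 : ((b.choose e : ℕ) : F) = 0 := by linear_combination (-1 : F) * h1
  exact hc ((CharP.cast_eq_zero_iff F 7 _).1 h3)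

theorem pow_seven_of [Fintype F] {b : ℕ} (hb : b < Fintype.card F)
    (h : ∀ s : F, ∑ k ∈ Finset.range 7, (s + k) ^ b = 0) (h1 : b % 6 = 1) : ∃ i, b = 7 ^ i := by
  apply pow_of_digits
  have h2 := digit_sum_le hb h
  have h3 := Nat.modEq_digits_sum 6 7 (by norm_num) b
  unfold Nat.ModEq at h3
  omega

end field

end Cfsg.Agent.H214.Coef
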