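import Mathlib

/-!
# `Sp₄(F)`: block matrices and a functional equation (helper214)

`lev E = [E 0; 0 E⁻ᵀ]`, `up S = [1 S; 0 1]`, `lo S = [1 0; S 1]`; for `g = [A B; C D]` the matrix `C` is `cb g`.
A function `c` on `Sp₄(F)` with the properties `CF a b c` is `c J * (C₀₀) ^ a * (det C) ^ b` (`CF.formula`).
-/

set_option autoImplicit false
set_option linter.unusedSimpArgs false
set_option linter.unnecessarySeqFocus false

namespace Cfsg.Agent.H214.Coef

open Matrix

variable {F : Type*} [Field F]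

abbrev Sp4 (F : Type*) [Field F] := ↥(symplecticGroup (Fin 2) F)
abbrev M2 (F : Type*) := Matrix (Fin 2) (Fin 2) F

/-- the matrix -/
abbrev mt (g : Sp4 F) : Matrix (Fin 2 ⊕ Fin 2) (Fin 2 ⊕ Fin 2) F := g.1

theorem mt_mul (g h : Sp4 F) : mt (g * h) = mt g * mt h := rfl
theorem mt_one : mt (1 : Sp4 F) = 1 := rfl

def cb (g : Sp4 F) : M2 F := (mt g).toBlocks₂₁
def db (g : Sp4 F) : M2 F := (mt g).toBlocks₂₂
def ab (g : Sp4 F) : M2 F := (mt g).toBlocks₁₁
def bb (g : Sp4 F) : M2 F := (mt g).toBlocks₁₂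

theorem mt_eq (g : Sp4 F) : mt g = fromBlocks (ab g) (bb g) (cb g) (db g) := (fromBlocks_toBlocks _).symm

/-- the element of the Levi factor -/
def lev (E E' : M2 F) (h : E * E' = 1) : Sp4 F :=
  ⟨fromBlocks E 0 0 E'ᵀ, by
    rw [SymplecticGroup.fromBlocks_mem_iff]
    refine ⟨by simp, by simp, ?_⟩
    have h2 : E' * E = 1 := mul_eq_one_comm.1 h
    rw [← transpose_mul, h2]
    simp⟩

def up (S : M2 F) (h : Sᵀ = S) : Sp4 F :=
  ⟨fromBlocks 1 S 0 1, by rw [SymplecticGroup.fromBlocks_mem_iff]; simp [h]⟩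

def lo (S : M2 F) (h : Sᵀ = S) : Sp4 F :=
  ⟨fromBlocks 1 0 S 1, by rw [SymplecticGroup.fromBlocks_mem_iff]; simp [h]⟩

/-- `[0 -1; 1 0]` -/
def jj : Sp4 F := ⟨fromBlocks 0 (-1) 1 0, by rw [SymplecticGroup.fromBlocks_mem_iff]; simp⟩

/-! ### relations -/

theorem rel1 (g : Sp4 F) : (ab g)ᵀ * cb g = (cb g)ᵀ * ab g := by
  have h := g.2
  rw [show g.1 = fromBlocks (ab g) (bb g) (cb g) (db g) from mt_eq g, SymplecticGroup.fromBlocks_mem_iff] at h
  exact h.1

theorem rel2 (g : Sp4 F) : (bb g)ᵀ * db g = (db g)ᵀ * bb g := by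
  have h := g.2
  rw [show g.1 = fromBlocks (ab g) (bb g) (cb g) (db g) from mt_eq g, SymplecticGroup.fromBlocks_mem_iff] at h
  exact h.2.1

theorem rel3 (g : Sp4 F) : (ab g)ᵀ * db g - (cb g)ᵀ * bb g = 1 := by
  have h := g.2
  rw [show g.1 = fromBlocks (ab g) (bb g) (cb g) (db g) from mt_eq g, SymplecticGroup.fromBlocks_mem_iff] at h
  exact h.2.2

theorem rel4 (g : Sp4 F) : cb g * (db g)ᵀ = db g * (cb g)ᵀ := by
  have h := SymplecticGroup.transpose_mem g.2
  rw [show g.1 = fromBlocks (ab g) (bb g) (cb g) (db g) from mt_eq g, fromBlocks_transpose,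
    SymplecticGroup.fromBlocks_mem_iff] at h
  simpa using h.2.1

theorem rel5 (g : Sp4 F) : ab g * (db g)ᵀ - bb g * (cb g)ᵀ = 1 := by
  have h := SymplecticGroup.transpose_mem g.2
  rw [show g.1 = fromBlocks (ab g) (bb g) (cb g) (db g) from mt_eq g, fromBlocks_transpose,
    SymplecticGroup.fromBlocks_mem_iff] at h
  simpa using h.2.2

/-- multiplication on the right -/
theorem cb_mul (g h : Sp4 F) : cb (g * h) = cb g * ab h + db g * cb h := by
  rw [cb, mt_mul, mt_eq g, mt_eq h, fromBlocks_multiply, toBlocks_fromBlocks₂₁]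

theorem db_mul (g h : Sp4 F) : db (g * h) = cb g * bb h + db g * db h := by
  rw [db, mt_mul, mt_eq g, mt_eq h, fromBlocks_multiply, toBlocks_fromBlocks₂₂]

@[simp] theorem cb_lev (E E' : M2 F) (h) : cb (lev E E' h) = 0 := rfl
@[simp] theorem ab_lev (E E' : M2 F) (h) : ab (lev E E' h) = E := rfl
@[simp] theorem db_lev (E E' : M2 F) (h) : db (lev E E' h) = E'ᵀ := rfl
@[simp] theorem bb_lev (E E' : M2 F) (h) : bb (lev E E' h) = 0 := rfl
@[simp] theorem cb_up (S : M2 F) (h) : cb (up S h) = 0 := rfl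
@[simp] theorem ab_up (S : M2 F) (h) : ab (up S h) = 1 := rfl
@[simp] theorem db_up (S : M2 F) (h) : db (up S h) = 1 := rfl
@[simp] theorem bb_up (S : M2 F) (h) : bb (up S h) = S := rfl
@[simp] theorem cb_lo (S : M2 F) (h) : cb (lo S h) = S := rfl
@[simp] theorem ab_lo (S : M2 F) (h) : ab (lo S h) = 1 := rfl
@[simp] theorem db_lo (S : M2 F) (h) : db (lo S h) = 1 := rfl
@[simp] theorem bb_lo (S : M2 F) (h) : bb (lo S h) = 0 := rfl
@[simp] theorem cb_jj : cb (jj : Sp4 F) = 1 := rfl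
@[simp] theorem ab_jj : ab (jj : Sp4 F) = 0 := rfl
@[simp] theorem db_jj : db (jj : Sp4 F) = 0 := rfl
@[simp] theorem bb_jj : bb (jj : Sp4 F) = -1 := rfl

theorem sp_ext {g h : Sp4 F} (h1 : ab g = ab h) (h2 : bb g = bb h) (h3 : cb g = cb h) (h4 : db g = db h) : g = h := by
  apply Subtype.ext
  change mt g = mt h
  rw [mt_eq g, mt_eq h, h1, h2, h3, h4]

theorem ab_mul (g h : Sp4 F) : ab (g * h) = ab g * ab h + bb g * cb h := by
  rw [ab, mt_mul, mt_eq g, mt_eq h, fromBlocks_multiply, toBlocks_fromBlocks₁₁]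

theorem bb_mul (g h : Sp4 F) : bb (g * h) = ab g * bb h + bb g * db h := by
  rw [bb, mt_mul, mt_eq g, mt_eq h, fromBlocks_multiply, toBlocks_fromBlocks₁₂]

/-- elements with the same lower half differ by `up S` on the left -/
theorem exists_up {g h : Sp4 F} (h1 : cb g = cb h) (h2 : db g = db h) : ∃ (S : M2 F) (hS : Sᵀ = S), g = up S hS * h := by
  set x := g * h⁻¹ with hx
  have hg : g = x * h := by rw [hx]; group
  have e1 : cb x * ab h + db x * cb h = cb h := by rw [← cb_mul, ← hg, h1]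
  have e2 : cb x * bb h + db x * db h = db h := by rw [← db_mul, ← hg, h2]
  have e3 : cb x = 0 ∧ db x = 1 := by
    have h3 : fromBlocks (cb x) (db x) (0 : M2 F) 0 * mt h = fromBlocks 0 1 0 0 * mt h := by
      rw [mt_eq h, fromBlocks_multiply, fromBlocks_multiply, e1, e2]
      simp
    have h4 : mt h * mt h⁻¹ = 1 := by rw [← mt_mul, mul_inv_cancel, mt_one]
    have h5 := congrArg (· * mt h⁻¹) h3
    simp only [Matrix.mul_assoc, h4, Matrix.mul_one] at h5
    exact ⟨(fromBlocks_inj.1 h5).1, (fromBlocks_inj.1 h5).2.1⟩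
  have e4 : ab x = 1 := by
    have := rel5 x
    rw [e3.1, e3.2] at this
    simpa using this
  have e5 : (bb x)ᵀ = bb x := by
    have := rel2 x
    rw [e3.2] at this
    simpa using this
  refine ⟨bb x, e5, ?_⟩
  rw [hg]
  congr 1
  exact sp_ext e4 rfl e3.1 e3.2

/-- The functional equations. -/
structure CF [Fintype F] (a b : ℕ) (c : Sp4 F → F) : Prop where
  ha : a < Fintype.card F - 1
  hb : b < Fintype.card F - 1
  lup : ∀ S hS g, c (up S hS * g) = c g
  rup : ∀ S hS g, c (g * up S hS) = c g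
  llev : ∀ (x : F) h g, c (lev !![1, x; 0, 1] !![1, -x; 0, 1] h * g) = c g
  rlev : ∀ (x : F) h g, c (g * lev !![1, x; 0, 1] !![1, -x; 0, 1] h) = c g
  tor : ∀ (s t : Fˣ) h g, c (g * lev !![(s : F), 0; 0, (t : F)] !![(s : F)⁻¹, 0; 0, (t : F)⁻¹] h) =
    (s : F) ^ (a + b) * (t : F) ^ b * c g
  r1 : ∀ (h : ∀ x : F, !![1, 0; x, 1] * !![1, 0; -x, 1] = (1 : M2 F)) g, ∑ x : F, c (g * lev !![1, 0; x, 1] !![1, 0; -x, 1] (h x)) = 0
  r2 : ∀ (h : ∀ x : F, (!![0, 0; 0, x] : M2 F)ᵀ = !![0, 0; 0, x]) g, ∑ x : F, c (g * lo !![0, 0; 0, x] (h x)) = 0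

/-- `(C₀₀) ^ a * (det C) ^ b` -/
def phi (a b : ℕ) (C : M2 F) : F := C 0 0 ^ a * C.det ^ b

namespace CF

theorem hu (x : F) : !![1, x; 0, 1] * !![1, -x; 0, 1] = (1 : M2 F) := by
  ext i j; fin_cases i <;> fin_cases j <;> simp [Matrix.mul_apply]

theorem hl (x : F) : !![1, 0; x, 1] * !![1, 0; -x, 1] = (1 : M2 F) := by
  ext i j; fin_cases i <;> fin_cases j <;> simp [Matrix.mul_apply]

theorem hd (s t : Fˣ) : !![(s : F), 0; 0, (t : F)] * !![(s : F)⁻¹, 0; 0, (t : F)⁻¹] = (1 : M2 F) := by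
  ext i j; fin_cases i <;> fin_cases j <;> simp [Matrix.mul_apply]

theorem hsym (x : F) : (!![0, 0; 0, x] : M2 F)ᵀ = !![0, 0; 0, x] := by
  ext i j; fin_cases i <;> fin_cases j <;> simp

variable [Fintype F] {a b : ℕ} {c : Sp4 F → F} (h : CF a b c)
include h

theorem eq_of_lower {g g' : Sp4 F} (h1 : cb g = cb g') (h2 : db g = db g') : c g = c g' := by
  obtain ⟨S, hS, rfl⟩ := exists_up h1 h2
  exact h.lup S hS g'

theorem eq_of_lower' {g g' : Sp4 F} (h1 : cb g = cb g') (h2 : db g = db g') : c g = c g' := h.eq_of_lower h1 h2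

omit h in
/-- the value at `0` of a function which is a monomial elsewhere -/
theorem value_zero {e : ℕ} (he : e < Fintype.card F - 1) {f : F → F} {K : F} (hf : ∀ x, x ≠ 0 → f x = K * x ^ e)
    (hs : ∑ x : F, f x = 0) : f 0 = K * 0 ^ e := by
  have h1 : ∑ x : F, (f x - K * x ^ e) = 0 := by
    rw [Finset.sum_sub_distrib, hs, ← Finset.mul_sum, FiniteField.sum_pow_lt_card_sub_one F e he, mul_zero, sub_zero]
  rw [Finset.sum_eq_single 0 (fun x _ hx => by rw [hf x hx, sub_self]) (fun h => absurd (Finset.mem_univ _) h)] at h1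
  exact sub_eq_zero.1 h1

/-- `g = up * J * lev C * up` if `C` is invertible -/
theorem of_inv {g : Sp4 F} {C' : M2 F} (hC : cb g * C' = 1) : c g = c (jj * lev (cb g) C' hC) := by
  have hC' : C' * cb g = 1 := mul_eq_one_comm.1 hC
  have hsym : (C' * db g)ᵀ = C' * db g := by
    have h4 := rel4 g
    -- `C⁻¹ D = Dᵀ C⁻ᵀ`
    have h5 : (cb g)ᵀ * C'ᵀ = 1 := by rw [← transpose_mul, hC', transpose_one]
    rw [transpose_mul]
    calc (db g)ᵀ * C'ᵀ = C' * (cb g * (db g)ᵀ) * C'ᵀ := by rw [← Matrix.mul_assoc, hC', Matrix.one_mul]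
      _ = C' * db g * ((cb g)ᵀ * C'ᵀ) := by rw [h4]; simp only [Matrix.mul_assoc]
      _ = C' * db g := by rw [h5, Matrix.mul_one]
  rw [← h.rup (C' * db g) hsym (jj * lev (cb g) C' hC)]
  apply h.eq_of_lower
  · rw [cb_mul, cb_mul]
    simp
  · rw [db_mul, db_mul, cb_mul]
    simp [← Matrix.mul_assoc, hC]

theorem formula_big {g : Sp4 F} (h0 : cb g 0 0 ≠ 0) (h1 : (cb g).det ≠ 0) : c g = c jj * phi a b (cb g) := by
  set C := cb g with hCdef
  set s := C 0 0 with hs
  set l := C 1 0 / s with hl'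
  set r := C 0 1 / s with hr'
  set t := C.det / s with ht
  have ht0 : t ≠ 0 := div_ne_zero h1 h0
  have h0' : C 0 0 ≠ 0 := h0
  -- `C = L Δ R`
  let su : Fˣ := Units.mk0 s h0
  let tu : Fˣ := Units.mk0 t ht0
  have hsu : (su : F) = s := rfl
  have htu : (tu : F) = t := rfl
  set gl : Sp4 F := lev !![1, -l; 0, 1] !![1, - -l; 0, 1] (hu (-l)) with hgl
  set gr : Sp4 F := lev !![1, r; 0, 1] !![1, -r; 0, 1] (hu r) with hgr
  set gd : Sp4 F := lev !![(su : F), 0; 0, (tu : F)] !![(su : F)⁻¹, 0; 0, (tu : F)⁻¹] (hd su tu) with hgd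
  have key : ∀ S : M2 F, ∀ hS : Sᵀ = S, C * S = db g → c g = c jj * phi a b C := by
    intro S hS hCS
    have e1 : c g = c (gl * (jj * gd * gr * up S hS)) := by
      apply h.eq_of_lower
      · simp only [cb_mul, db_mul, ab_mul, bb_mul, hgl, hgr, hgd, cb_lev, ab_lev, db_lev, bb_lev, cb_up, ab_up, db_up, bb_up,
          cb_jj, ab_jj, db_jj, bb_jj, Matrix.mul_zero, Matrix.zero_mul, Matrix.mul_one, Matrix.one_mul, add_zero, zero_add,
          ← hCdef]
        ext i j
        have hdet : C.det = C 0 0 * C 1 1 - C 0 1 * C 1 0 := Matrix.det_fin_two C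
        fin_cases i <;> fin_cases j <;>
          simp [Matrix.mul_apply, Fin.sum_univ_two, hsu, htu, hl', hr', ht, hdet, hs] <;> field_simp <;> ring
      · rw [← hCS]
        simp only [cb_mul, db_mul, ab_mul, bb_mul, hgl, hgr, hgd, cb_lev, ab_lev, db_lev, bb_lev, cb_up, ab_up, db_up, bb_up,
          cb_jj, ab_jj, db_jj, bb_jj, Matrix.mul_zero, Matrix.zero_mul, Matrix.mul_one, Matrix.one_mul, add_zero, zero_add]
        rw [← Matrix.mul_assoc]
        congr 1
        ext i j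
        have hdet : C.det = C 0 0 * C 1 1 - C 0 1 * C 1 0 := Matrix.det_fin_two C
        fin_cases i <;> fin_cases j <;>
          simp [Matrix.mul_apply, Fin.sum_univ_two, hsu, htu, hl', hr', ht, hdet, hs] <;> field_simp <;> ring
    rw [e1, h.llev, h.rup, h.rlev, h.tor, phi]
    have h6 : s * t = C.det := by rw [ht]; field_simp
    rw [hsu, htu, ← hs, ← h6, pow_add, mul_pow]
    ring
  have hC' : C * C⁻¹ = 1 := Matrix.mul_nonsing_inv _ (isUnit_iff_ne_zero.2 h1)
  have hC'' : C⁻¹ * C = 1 := mul_eq_one_comm.1 hC'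
  refine key (C⁻¹ * db g) ?_ ?_
  · have h4 := rel4 g
    have h5 : (cb g)ᵀ * (C⁻¹)ᵀ = 1 := by rw [← transpose_mul, ← hCdef, hC'', transpose_one]
    rw [transpose_mul]
    calc (db g)ᵀ * (C⁻¹)ᵀ = C⁻¹ * (cb g * (db g)ᵀ) * (C⁻¹)ᵀ := by rw [← Matrix.mul_assoc, ← hCdef, hC'', Matrix.one_mul]
      _ = C⁻¹ * db g * ((cb g)ᵀ * (C⁻¹)ᵀ) := by rw [h4]; simp only [Matrix.mul_assoc]
      _ = C⁻¹ * db g := by rw [h5, Matrix.mul_one]
  · rw [← Matrix.mul_assoc, hC', Matrix.one_mul]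

theorem formula_det {g : Sp4 F} (h1 : (cb g).det ≠ 0) : c g = c jj * phi a b (cb g) := by
  by_cases h0 : cb g 0 0 = 0
  swap
  · exact h.formula_big h0 h1
  have hcb : ∀ x : F, cb (g * lev !![1, 0; x, 1] !![1, 0; -x, 1] (hl x)) = cb g * !![1, 0; x, 1] := by
    intro x
    rw [cb_mul]; simp
  have hdet : ∀ x : F, (cb g * !![1, 0; x, 1]).det = (cb g).det := by
    intro x
    rw [Matrix.det_mul, Matrix.det_fin_two_of]; simp
  have hen : ∀ x : F, (cb g * !![1, 0; x, 1]) 0 0 = x * cb g 0 1 := by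
    intro x
    simp [Matrix.mul_apply, Fin.sum_univ_two, h0, mul_comm]
  have h01 : cb g 0 1 ≠ 0 := by
    intro h2
    apply h1
    rw [Matrix.det_fin_two, h0, h2]; ring
  have key := value_zero h.ha (f := fun x => c (g * lev !![1, 0; x, 1] !![1, 0; -x, 1] (hl x)))
    (K := c jj * (cb g 0 1 ^ a * (cb g).det ^ b)) ?_ (h.r1 hl g)
  · have e0 : c (g * lev !![1, 0; 0, 1] !![1, 0; -0, 1] (hl 0)) = c g := by
      apply h.eq_of_lower
      · rw [hcb, ← Matrix.one_fin_two, Matrix.mul_one]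
      · rw [db_mul]; simp [← Matrix.one_fin_two]
    rw [e0] at key
    rw [key, phi, h0]
    rcases Nat.eq_zero_or_pos a with ha | ha
    · rw [ha]; ring
    · rw [zero_pow (by omega)]; ring
  · intro x hx
    rw [h.formula_big (by rw [hcb, hen]; exact mul_ne_zero hx h01) (by rw [hcb, hdet]; exact h1), hcb, phi, hdet, hen,
      mul_pow]
    ring

omit h [Fintype F] in
theorem delta_ne {g : Sp4 F} (h1 : (cb g).det = 0) (h0 : cb g 0 0 ≠ 0 ∨ cb g 1 0 ≠ 0) :
    cb g 0 0 * db g 1 1 - cb g 1 0 * db g 0 1 ≠ 0 := by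
  intro hδ
  rw [Matrix.det_fin_two] at h1
  have r4 := rel4 g
  have r5 := rel5 g
  have r401 := congrFun (congrFun r4 0) 1
  have r500 := congrFun (congrFun r5 0) 0
  have r501 := congrFun (congrFun r5 0) 1
  have r510 := congrFun (congrFun r5 1) 0
  have r511 := congrFun (congrFun r5 1) 1
  simp only [Matrix.mul_apply, Matrix.sub_apply, Fin.sum_univ_two, Matrix.transpose_apply, Matrix.one_apply_eq] at r401 r500 r511
  simp only [Matrix.mul_apply, Matrix.sub_apply, Fin.sum_univ_two, Matrix.transpose_apply,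
    Matrix.one_apply_ne (show (0 : Fin 2) ≠ 1 by decide)] at r501
  simp only [Matrix.mul_apply, Matrix.sub_apply, Fin.sum_univ_two, Matrix.transpose_apply,
    Matrix.one_apply_ne (show (1 : Fin 2) ≠ 0 by decide)] at r510
  set C00 := cb g 0 0
  set C01 := cb g 0 1
  set C10 := cb g 1 0
  set C11 := cb g 1 1
  set D00 := db g 0 0
  set D01 := db g 0 1
  set D10 := db g 1 0
  set D11 := db g 1 1
  have hε : C01 * D11 - C11 * D01 = 0 := by
    have e1 : C00 * (C01 * D11 - C11 * D01) = 0 := by linear_combination C01 * hδ - D01 * h1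
    have e2 : C10 * (C01 * D11 - C11 * D01) = 0 := by linear_combination C11 * hδ - D11 * h1
    rcases h0 with h0 | h0
    · exact (mul_eq_zero.1 e1).resolve_left h0
    · exact (mul_eq_zero.1 e2).resolve_left h0
  have hw : C10 * D00 - C00 * D10 = 0 := by linear_combination hε - r401
  rcases h0 with h0 | h0
  · apply h0
    linear_combination C10 * r510 - C00 * r511 - ab g 1 0 * hw + ab g 1 1 * hδ - bb g 1 1 * h1
  · apply h0
    linear_combination ab g 0 0 * hw - ab g 0 1 * hδ + bb g 0 1 * h1 - C10 * r500 + C00 * r501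

/-- first column nonzero -/
theorem formula_col {g : Sp4 F} (h0 : cb g 0 0 ≠ 0 ∨ cb g 1 0 ≠ 0) : c g = c jj * phi a b (cb g) := by
  by_cases h1 : (cb g).det = 0
  swap
  · exact h.formula_det h1
  have hδ := delta_ne h1 h0
  have hcb : ∀ x : F, cb (g * lo !![0, 0; 0, x] (hsym x)) = cb g + db g * !![0, 0; 0, x] := by
    intro x
    rw [cb_mul]; simp
  have h1' := h1
  rw [Matrix.det_fin_two] at h1'
  have hdet : ∀ x : F, (cb g + db g * !![0, 0; 0, x]).det = x * (cb g 0 0 * db g 1 1 - cb g 1 0 * db g 0 1) := by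
    intro x
    rw [Matrix.det_fin_two]
    simp only [Matrix.add_apply, Matrix.mul_apply, Fin.sum_univ_two]
    simp
    linear_combination h1'
  have hen : ∀ x : F, (cb g + db g * !![0, 0; 0, x]) 0 0 = cb g 0 0 := by
    intro x
    simp [Matrix.mul_apply, Fin.sum_univ_two]
  have key := value_zero h.hb (f := fun x => c (g * lo !![0, 0; 0, x] (hsym x)))
    (K := c jj * (cb g 0 0 ^ a * (cb g 0 0 * db g 1 1 - cb g 1 0 * db g 0 1) ^ b)) ?_ (h.r2 hsym g)
  · have e0 : c (g * lo !![0, 0; 0, 0] (hsym 0)) = c g := by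
      apply h.eq_of_lower
      · rw [hcb]
        ext i j
        fin_cases j <;> simp [Matrix.mul_apply, Fin.sum_univ_two]
      · rw [db_mul]; simp
    rw [e0] at key
    rw [key, phi, h1]
    rcases Nat.eq_zero_or_pos b with hb | hb
    · rw [hb]; ring
    · rw [zero_pow (by omega)]; ring
  · intro x hx
    rw [h.formula_det (by rw [hcb, hdet]; exact mul_ne_zero hx hδ), hcb, phi, hdet, hen, mul_pow]
    ring

theorem formula_ne {g : Sp4 F} (h0 : cb g ≠ 0) : c g = c jj * phi a b (cb g) := by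
  by_cases h1 : cb g 0 0 ≠ 0 ∨ cb g 1 0 ≠ 0
  · exact h.formula_col h1
  push Not at h1
  have hcb : ∀ x : F, cb (g * lev !![1, 0; x, 1] !![1, 0; -x, 1] (hl x)) = cb g * !![1, 0; x, 1] := by
    intro x
    rw [cb_mul]; simp
  have hdet : ∀ x : F, (cb g * !![1, 0; x, 1]).det = 0 := by
    intro x
    rw [Matrix.det_mul, Matrix.det_fin_two, h1.1, h1.2]; ring
  have hen : ∀ x : F, (cb g * !![1, 0; x, 1]) 0 0 = x * cb g 0 1 := by
    intro x
    simp [Matrix.mul_apply, Fin.sum_univ_two, h1.1, mul_comm]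
  have hen1 : ∀ x : F, (cb g * !![1, 0; x, 1]) 1 0 = x * cb g 1 1 := by
    intro x
    simp [Matrix.mul_apply, Fin.sum_univ_two, h1.2, mul_comm]
  have h01 : cb g 0 1 ≠ 0 ∨ cb g 1 1 ≠ 0 := by
    by_contra hc
    push Not at hc
    apply h0
    ext i j
    fin_cases i <;> fin_cases j <;> simp [h1.1, h1.2, hc.1, hc.2]
  have key := value_zero h.ha (f := fun x => c (g * lev !![1, 0; x, 1] !![1, 0; -x, 1] (hl x)))
    (K := c jj * (cb g 0 1 ^ a * 0 ^ b)) ?_ (h.r1 hl g)
  · have e0 : c (g * lev !![1, 0; 0, 1] !![1, 0; -0, 1] (hl 0)) = c g := by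
      apply h.eq_of_lower
      · rw [hcb, ← Matrix.one_fin_two, Matrix.mul_one]
      · rw [db_mul]; simp [← Matrix.one_fin_two]
    rw [e0] at key
    have hd0 : (cb g).det = 0 := by rw [Matrix.det_fin_two, h1.1, h1.2]; ring
    rw [key, phi, h1.1, hd0]
    rcases Nat.eq_zero_or_pos a with ha | ha
    · rw [ha]; ring
    · rw [zero_pow (M₀ := F) (n := a) (by omega)]; ring
  · intro x hx
    rw [h.formula_col (by rw [hcb, hen, hen1]; exact h01.imp (mul_ne_zero hx) (mul_ne_zero hx)), hcb, phi, hdet, hen,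
      mul_pow]
    ring

theorem formula (g : Sp4 F) : c g = c jj * phi a b (cb g) := by
  by_cases h0 : cb g = 0
  swap
  · exact h.formula_ne h0
  have hcb : ∀ x : F, cb (g * lo !![0, 0; 0, x] (hsym x)) = db g * !![0, 0; 0, x] := by
    intro x
    rw [cb_mul]; simp [h0]
  have hcb' : ∀ x : F, x ≠ 0 → cb (g * lo !![0, 0; 0, x] (hsym x)) ≠ 0 := by
    intro x hx hx0
    rw [hcb] at hx0
    have r5 := rel5 g
    rw [h0, transpose_zero, Matrix.mul_zero, sub_zero] at r5
    have h2 : (db g)ᵀ * ab g = 1 := mul_eq_one_comm.1 r5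
    have h3 : (ab g)ᵀ * db g = 1 := by
      have := congrArg Matrix.transpose h2
      simpa using this
    have h4 := congrArg (fun Z => (ab g)ᵀ * Z) hx0
    simp only [← Matrix.mul_assoc, h3, Matrix.one_mul, Matrix.mul_zero] at h4
    exact hx (by simpa using congrFun (congrFun h4 1) 1)
  have key := value_zero (Nat.lt_of_le_of_lt (Nat.zero_le _) h.ha) (f := fun x => c (g * lo !![0, 0; 0, x] (hsym x)))
    (K := c jj * (0 ^ a * 0 ^ b)) ?_ (h.r2 hsym g)
  · have e0 : c (g * lo !![0, 0; 0, 0] (hsym 0)) = c g := by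
      apply h.eq_of_lower
      · rw [hcb, h0]
        ext i j
        fin_cases j <;> simp [Matrix.mul_apply, Fin.sum_univ_two]
      · rw [db_mul]; simp
    rw [e0] at key
    rw [key, phi, h0]
    simp
  · intro x hx
    rw [h.formula_ne (hcb' x hx), hcb, phi]
    have e1 : (db g * !![0, 0; 0, x]) 0 0 = 0 := by simp [Matrix.mul_apply, Fin.sum_univ_two]
    have e2 : (db g * !![0, 0; 0, x]).det = 0 := by rw [Matrix.det_mul, Matrix.det_fin_two_of]; simp
    rw [e1, e2, pow_zero, mul_one]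

end CF

end Cfsg.Agent.H214.Coef
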