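import Mathlib
import Cfsg.Agent.H214.Coef.Arith
import Cfsg.Agent.H214.Coef.SpMat

/-!
# `Sp₄(F)`, characteristic 7: the weights of the modules on which elements of order 7 have norm zero (helper214)
-/

set_option autoImplicit false
set_option linter.unusedSimpArgs false
set_option linter.unnecessarySeqFocus false

namespace Cfsg.Agent.H214.Coef

open Matrix

variable {F : Type*} [Field F]

/-- the one parameter group `exp (kN)` -/
def uu [CharP F 7] (k : F) : Sp4 F :=
  ⟨fromBlocks !![1, k; 0, 1] !![k ^ 3, 4 * k ^ 2; 3 * k ^ 2, k] 0 !![1, 0; -k, 1], by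
    rw [SymplecticGroup.fromBlocks_mem_iff]
    have h7 := seven (F := F)
    refine ⟨by simp, ?_, ?_⟩
    · ext i j
      fin_cases i <;> fin_cases j <;> simp [Matrix.mul_apply, Fin.sum_univ_two] <;> ring
    · ext i j
      fin_cases i <;> fin_cases j <;> simp [Matrix.mul_apply, Fin.sum_univ_two]⟩

theorem uu_mul [CharP F 7] (k l : F) : uu k * uu l = uu (k + l) := by
  have h7 := seven (F := F)
  apply Subtype.ext
  change fromBlocks _ _ _ _ * fromBlocks _ _ _ _ = fromBlocks _ _ _ _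
  rw [fromBlocks_multiply]
  congr 1
  · ext i j
    fin_cases i <;> fin_cases j <;> simp [Matrix.mul_apply, Fin.sum_univ_two] <;> ring
  · ext i j
    fin_cases i <;> fin_cases j <;> simp [Matrix.mul_apply, Fin.sum_univ_two]
    · linear_combination (- k ^ 2 * l) * h7
    · linear_combination (-k * l) * h7
    · linear_combination (-k * l) * h7
    · ring
  · simp
  · ext i j
    fin_cases i <;> fin_cases j <;> simp [Matrix.mul_apply, Fin.sum_univ_two] <;> ring

theorem uu_zero [CharP F 7] : uu (0 : F) = 1 := by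
  have h := uu_mul (0 : F) 0
  rw [add_zero] at h
  exact mul_eq_left.1 h

theorem uu_pow [CharP F 7] (k : ℕ) : (uu (1 : F)) ^ k = uu (k : F) := by
  induction k with
  | zero => rw [pow_zero, Nat.cast_zero, uu_zero]
  | succ k ih => rw [pow_succ, ih, uu_mul, Nat.cast_succ]

theorem uu_pow_seven [CharP F 7] : (uu (1 : F)) ^ 7 = 1 := by
  rw [uu_pow, show ((7 : ℕ) : F) = 0 from by exact_mod_cast seven (F := F), uu_zero]

@[simp] theorem cb_uu [CharP F 7] (k : F) : cb (uu k) = 0 := rfl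
@[simp] theorem ab_uu [CharP F 7] (k : F) : ab (uu k) = !![1, k; 0, 1] := rfl
@[simp] theorem bb_uu [CharP F 7] (k : F) : bb (uu k) = !![k ^ 3, 4 * k ^ 2; 3 * k ^ 2, k] := rfl
@[simp] theorem db_uu [CharP F 7] (k : F) : db (uu k) = !![1, 0; -k, 1] := rfl

/-- swap -/
def sw : Sp4 F := lev !![0, 1; 1, 0] !![0, 1; 1, 0] (by
  ext i j; fin_cases i <;> fin_cases j <;> simp [Matrix.mul_apply, Fin.sum_univ_two])

/-- columns `e₁, f₂ + s e₂` -/
def gc (s : F) : Sp4 F := ⟨fromBlocks !![1, 0; 0, s] !![0, 0; 0, -1] !![0, 0; 0, 1] !![1, 0; 0, 0], by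
    rw [SymplecticGroup.fromBlocks_mem_iff]
    refine ⟨?_, ?_, ?_⟩ <;>
    · ext i j
      fin_cases i <;> fin_cases j <;> simp [Matrix.mul_apply, Fin.sum_univ_two]⟩

/-- columns `e₂, f₁ + s e₁` -/
def gb (s : F) : Sp4 F := ⟨fromBlocks !![0, s; 1, 0] !![0, -1; 0, 0] !![0, 1; 0, 0] !![0, 0; 1, 0], by
    rw [SymplecticGroup.fromBlocks_mem_iff]
    refine ⟨?_, ?_, ?_⟩ <;>
    · ext i j
      fin_cases i <;> fin_cases j <;> simp [Matrix.mul_apply, Fin.sum_univ_two]⟩

/-- rows `e₁, f₂` -/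
def gr : Sp4 F := ⟨fromBlocks !![0, 0; 0, 1] !![-1, 0; 0, 0] !![1, 0; 0, 0] !![0, 0; 0, 1], by
    rw [SymplecticGroup.fromBlocks_mem_iff]
    refine ⟨?_, ?_, ?_⟩ <;>
    · ext i j
      fin_cases i <;> fin_cases j <;> simp [Matrix.mul_apply, Fin.sum_univ_two]⟩

@[simp] theorem cb_sw : cb (sw : Sp4 F) = 0 := rfl
@[simp] theorem ab_sw : ab (sw : Sp4 F) = !![0, 1; 1, 0] := rfl
@[simp] theorem db_sw : db (sw : Sp4 F) = !![0, 1; 1, 0]ᵀ := rfl
@[simp] theorem bb_sw : bb (sw : Sp4 F) = 0 := rfl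
@[simp] theorem cb_gc (s : F) : cb (gc s) = !![0, 0; 0, 1] := rfl
@[simp] theorem ab_gc (s : F) : ab (gc s) = !![1, 0; 0, s] := rfl
@[simp] theorem cb_gb (s : F) : cb (gb s) = !![0, 1; 0, 0] := rfl
@[simp] theorem ab_gb (s : F) : ab (gb s) = !![0, s; 1, 0] := rfl
@[simp] theorem cb_gr : cb (gr : Sp4 F) = !![1, 0; 0, 0] := rfl
@[simp] theorem db_gr : db (gr : Sp4 F) = !![0, 0; 0, 1] := rfl

theorem cb_mul3 (g1 u g2 : Sp4 F) : cb (g1 * u * g2) = (cb g1 * ab u + db g1 * cb u) * ab g2 +
    (cb g1 * bb u + db g1 * db u) * cb g2 := by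
  rw [cb_mul, cb_mul, db_mul]

/-- The result of the tests. -/
theorem weight_of [Fintype F] [CharP F 7] {a b : ℕ} (ha : a < Fintype.card F) (hb : b < Fintype.card F) (hev : a % 2 = 0)
    (H : ∀ g1 g2 : Sp4 F, ∑ k ∈ Finset.range 7, phi a b (cb (g1 * (uu (1 : F)) ^ k * g2)) = 0) :
    a = 0 ∧ (b = 0 ∨ ∃ i, b = 7 ^ i) := by
  have h7 := seven (F := F)
  have hF : (1 : F) ≠ 0 := one_ne_zero
  -- b = 0 or b % 6 = 1
  have hb6 : b = 0 ∨ b % 6 = 1 := by
    rcases Nat.eq_zero_or_pos b with h0 | h0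
    · exact Or.inl h0
    right
    have hB : ∀ β : F, ∑ k ∈ Finset.range 7, (β - 2 * (k : F) ^ 3) ^ b = 0 := by
      intro β
      rw [← H (jj * sw) (gb β)]
      refine Finset.sum_congr rfl fun k _ => ?_
      rw [uu_pow, cb_mul3]
      simp only [cb_mul, db_mul, ab_mul, bb_mul, cb_jj, ab_jj, db_jj, bb_jj, cb_sw, ab_sw, db_sw, bb_sw, cb_uu, ab_uu,
        bb_uu, db_uu, cb_gb, ab_gb, phi]
      rw [Matrix.det_fin_two]
      simp [Matrix.mul_apply, Fin.sum_univ_two, Matrix.add_apply]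
      congr 1
      ring
    have hodd : b % 2 = 1 := by
      by_contra hne
      have h1 := hB 0
      have h2 : ∀ k : ℕ, ((0 : F) - 2 * (k : F) ^ 3) ^ b = (-2) ^ b * (k : F) ^ (3 * b) := by
        intro k
        rw [pow_mul, ← mul_pow]; congr 1; ring
      simp only [h2] at h1
      rw [← Finset.mul_sum, sum_pow (by omega) (by omega)] at h1
      have h3 : (-2 : F) ≠ 0 := by
        intro h4
        apply hF
        linear_combination h7 + 3 * h4
      have := pow_ne_zero b h3
      apply this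
      linear_combination -h1
    have hmod3 : b % 3 = 1 := by
      have h1 := hB 2
      simp only [Finset.sum_range_succ, Finset.range_zero, Finset.sum_empty, zero_add] at h1
      have e0 : (2 - 2 * ((0 : ℕ) : F) ^ 3) = 2 := by push_cast; ring
      have e1 : (2 - 2 * ((1 : ℕ) : F) ^ 3) = 0 := by push_cast; ring
      have e2 : (2 - 2 * ((2 : ℕ) : F) ^ 3) = 0 := by push_cast; linear_combination (-2) * h7
      have e3 : (2 - 2 * ((3 : ℕ) : F) ^ 3) = 4 := by push_cast; linear_combination (-8) * h7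
      have e4 : (2 - 2 * ((4 : ℕ) : F) ^ 3) = 0 := by push_cast; linear_combination (-18) * h7
      have e5 : (2 - 2 * ((5 : ℕ) : F) ^ 3) = 4 := by push_cast; linear_combination (-36) * h7
      have e6 : (2 - 2 * ((6 : ℕ) : F) ^ 3) = 4 := by push_cast; linear_combination (-62) * h7
      rw [e0, e1, e2, e3, e4, e5, e6, zero_pow (by omega)] at h1
      have h8 : (2 : F) ^ 3 = 1 := by linear_combination h7
      have h4 : (4 : F) = 2 ^ 2 := by norm_num
      obtain ⟨m, hm⟩ : ∃ m, b = 3 * m + b % 3 := ⟨b / 3, by omega⟩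
      have h3 : (2 : F) ^ b = 2 ^ (b % 3) := by
        rw [hm, pow_add, pow_mul, h8, one_pow, one_mul]; congr 1; omega
      have h5 : (4 : F) ^ b = 2 ^ (2 * (b % 3)) := by
        rw [h4, ← pow_mul, mul_comm 2 b, pow_mul, h3, ← pow_mul, mul_comm]
      rw [h3, h5] at h1
      have h6 : b % 3 < 3 := Nat.mod_lt _ (by norm_num)
      generalize b % 3 = r at h1 h6
      interval_cases r
      · exfalso
        apply hF
        simp at h1
        linear_combination 2 * h1 - h7
      · rfl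
      · exfalso
        apply hF
        simp at h1
        linear_combination (-2) * h1 + 15 * h7
    omega
  -- a = 0
  have ha0 : a = 0 := by
    by_contra hane
    -- `6 ∤ a`
    have hna : a % 6 ≠ 0 := by
      intro h6
      have h1 := H jj sw
      have h2 : ∀ k : ℕ, phi a b (cb (jj * (uu (1 : F)) ^ k * sw)) = (-1) ^ b * (k : F) ^ a := by
        intro k
        rw [uu_pow, cb_mul3]
        simp only [cb_mul, db_mul, ab_mul, bb_mul, cb_jj, ab_jj, db_jj, bb_jj, cb_sw, ab_sw, db_sw, bb_sw, cb_uu, ab_uu,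
          bb_uu, db_uu, phi]
        rw [Matrix.det_fin_two]
        simp [Matrix.mul_apply, Fin.sum_univ_two, Matrix.add_apply]
        ring
      simp only [h2] at h1
      rw [← Finset.mul_sum, sum_pow h6 (by omega)] at h1
      have := pow_ne_zero b (show (-1 : F) ≠ 0 from neg_ne_zero.2 hF)
      apply this
      linear_combination -h1
    rcases hb6 with rfl | hb6
    · -- rows `e₁ e₂`, columns `f₁ f₂`
      have h1 := H jj jj
      have h2 : ∀ k : ℕ, phi a 0 (cb (jj * (uu (1 : F)) ^ k * jj)) = (k : F) ^ (3 * a) := by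
        intro k
        rw [uu_pow, cb_mul3]
        simp only [cb_mul, db_mul, ab_mul, bb_mul, cb_jj, ab_jj, db_jj, bb_jj, cb_sw, ab_sw, db_sw, bb_sw, cb_uu, ab_uu,
          bb_uu, db_uu, phi]
        simp [Matrix.mul_apply, Fin.sum_univ_two, Matrix.add_apply, pow_mul]
      simp only [h2] at h1
      rw [sum_pow (by omega) (by omega)] at h1
      exact neg_ne_zero.2 hF h1
    have ha24 : a % 6 = 2 ∨ a % 6 = 4 := by omega
    rcases ha24 with ha2 | ha4
    · -- rows `e₂ e₁`, columns `f₂ f₁`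
      have h1 := H (jj * sw) (jj * sw)
      have h2 : ∀ k : ℕ, phi a b (cb (jj * sw * (uu (1 : F)) ^ k * (jj * sw))) = 3 ^ b * (k : F) ^ (a + 4 * b) := by
        intro k
        rw [uu_pow, cb_mul3]
        simp only [cb_mul, db_mul, ab_mul, bb_mul, cb_jj, ab_jj, db_jj, bb_jj, cb_sw, ab_sw, db_sw, bb_sw, cb_uu, ab_uu,
          bb_uu, db_uu, phi]
        rw [Matrix.det_fin_two]
        simp [Matrix.mul_apply, Fin.sum_univ_two, Matrix.add_apply]
        have h3 : (k : F) * (k : F) ^ 3 - 3 * (k : F) ^ 2 * (4 * (k : F) ^ 2) = 3 * (k : F) ^ 4 := by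
          linear_combination (-2 * (k : F) ^ 4) * h7
        rw [h3, mul_pow, pow_add, pow_mul]
        ring
      simp only [h2] at h1
      rw [← Finset.mul_sum, sum_pow (by omega) (by omega)] at h1
      have h3 : (3 : F) ≠ 0 := by
        intro h4
        apply hF
        linear_combination h7 - 2 * h4
      have := pow_ne_zero b h3
      apply this
      linear_combination -h1
    · -- rows `e₁ f₂`, columns `e₂ f₁`
      have h1 := H gr (gb 0)
      have h2 : ∀ k : ℕ, phi a b (cb (gr * (uu (1 : F)) ^ k * gb 0)) = (-1) ^ b * (k : F) ^ (a + 2 * b) := by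
        intro k
        rw [uu_pow, cb_mul3]
        simp only [cb_mul, db_mul, ab_mul, bb_mul, cb_gr, db_gr, cb_uu, ab_uu,
          bb_uu, db_uu, cb_gb, ab_gb, phi]
        rw [Matrix.det_fin_two]
        simp [Matrix.mul_apply, Fin.sum_univ_two, Matrix.add_apply]
        rw [pow_add, pow_mul, neg_pow]
        ring
      simp only [h2] at h1
      rw [← Finset.mul_sum, sum_pow (by omega) (by omega)] at h1
      have := pow_ne_zero b (show (-1 : F) ≠ 0 from neg_ne_zero.2 hF)
      apply this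
      linear_combination -h1
  refine ⟨ha0, hb6.imp_right fun hb6 => pow_seven_of hb ?_ hb6⟩
  intro s
  rw [← H jj (gc s)]
  refine Finset.sum_congr rfl fun k _ => ?_
  rw [uu_pow, cb_mul3]
  simp only [cb_mul, db_mul, ab_mul, bb_mul, cb_jj, ab_jj, db_jj, bb_jj, cb_uu, ab_uu,
    bb_uu, db_uu, cb_gc, ab_gc, phi]
  rw [Matrix.det_fin_two]
  simp [Matrix.mul_apply, Fin.sum_univ_two, Matrix.add_apply]

end Cfsg.Agent.H214.Coef
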