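import Mathlib
import Cfsg.Agent.H214.Coef.Tests

/-!
# Matrix coefficients of the irreducible representations of `Sp₄(F)` (helper214)
-/

set_option autoImplicit false

namespace Cfsg.Agent.H214.Coef

open Matrix

/-! ### general -/

/-- a `p`-group fixes a nonzero vector -/
theorem exists_fixed {F G Y : Type*} [Field F] [CharP F 7] [Group G] [AddCommGroup Y] [Module F Y] [Finite Y]
    [Nontrivial Y] (ρ : Representation F G Y) (U : Subgroup G) (hU : IsPGroup 7 ↥U) :
    ∃ v : Y, v ≠ 0 ∧ ∀ u ∈ U, ρ u v = v := by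
  let _ : MulAction ↥U Y :=
    { smul := fun u y => ρ (u : G) y
      one_smul := fun y => by change ρ ((1 : ↥U) : G) y = y; simp
      mul_smul := fun u w y => by change ρ ((u * w : ↥U) : G) y = ρ (u : G) (ρ (w : G) y); simp }
  have hsm : ∀ (u : ↥U) (y : Y), u • y = ρ (u : G) y := fun _ _ => rfl
  have : Fact (Nat.Prime 7) := ⟨by norm_num⟩
  obtain ⟨y, hy⟩ := exists_ne (0 : Y)
  have h7 : (7 : ℕ) • y = 0 := by
    have h := seven (F := F)
    rw [← Nat.cast_smul_eq_nsmul F, show ((7 : ℕ) : F) = 0 from by exact_mod_cast h, zero_smul]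
  have hord : addOrderOf y = 7 := addOrderOf_eq_prime h7 hy
  have hdvd : 7 ∣ Nat.card Y := by rw [← hord]; exact addOrderOf_dvd_natCard y
  have h0 : (0 : Y) ∈ MulAction.fixedPoints ↥U Y := fun u => by rw [hsm, map_zero]
  obtain ⟨v, hv, hv0⟩ := hU.exists_fixed_point_of_prime_dvd_card_of_fixed_point Y hdvd h0
  exact ⟨v, hv0.symm, fun u hu => hv ⟨u, hu⟩⟩

theorem geom {F : Type*} [Field F] [Fintype F] [DecidableEq Fˣ] (x : Fˣ) :
    ∑ a ∈ Finset.range (Fintype.card F - 1), (x : F) ^ a = if x = 1 then -1 else 0 := by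
  have hx : (x : F) ^ (Fintype.card F - 1) = 1 := FiniteField.pow_card_sub_one_eq_one _ x.ne_zero
  split_ifs with h
  · subst h
    simp only [Units.val_one, one_pow, Finset.sum_const, Finset.card_range, nsmul_eq_mul, mul_one]
    rw [Nat.cast_sub Fintype.one_lt_card.le]
    simp
  · have h1 : (x : F) ≠ 1 := fun h1 => h (Units.ext h1)
    have h2 := geom_sum_mul (x : F) (Fintype.card F - 1)
    rw [hx, sub_self] at h2
    exact (mul_eq_zero.1 h2).resolve_right (sub_ne_zero.2 h1)

/-- eigenvectors for `Fˣ` -/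
theorem exists_eigen {F Y : Type*} [Field F] [Fintype F] [AddCommGroup Y] [Module F Y] (φ : Fˣ →* (Y →ₗ[F] Y))
    (W : Submodule F Y) (hW : ∀ s, ∀ w ∈ W, φ s w ∈ W) (hne : ∃ w ∈ W, w ≠ 0) :
    ∃ a < Fintype.card F - 1, ∃ w ∈ W, w ≠ 0 ∧ ∀ s : Fˣ, φ s w = (s : F) ^ a • w := by
  classical
  obtain ⟨v, hv, hv0⟩ := hne
  by_contra hcon
  push Not at hcon
  have hall : ∀ a < Fintype.card F - 1, ∑ s : Fˣ, ((s⁻¹ : Fˣ) : F) ^ a • φ s v = 0 := by
    intro a ha
    by_contra hne
    obtain ⟨s, hs⟩ := hcon a ha _ (Submodule.sum_mem _ fun s _ => Submodule.smul_mem _ _ (hW s v hv)) hne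
    apply hs
    rw [map_sum, Finset.smul_sum, ← Equiv.sum_comp (Equiv.mulLeft s) (fun r : Fˣ => (s : F) ^ a • (((r⁻¹ : Fˣ) : F) ^ a • φ r v))]
    refine Finset.sum_congr rfl fun r _ => ?_
    rw [map_smul, Equiv.coe_mulLeft, map_mul, Module.End.mul_apply, smul_smul, ← mul_pow]
    congr 2
    have : (s : F) ≠ 0 := s.ne_zero
    push_cast
    field_simp
  have h1 : ∑ a ∈ Finset.range (Fintype.card F - 1), ∑ s : Fˣ, ((s⁻¹ : Fˣ) : F) ^ a • φ s v = 0 :=
    Finset.sum_eq_zero fun a ha => hall a (Finset.mem_range.1 ha)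
  rw [Finset.sum_comm] at h1
  simp only [← Finset.sum_smul, geom, inv_eq_one] at h1
  rw [Finset.sum_eq_single 1 (fun s _ hs => by rw [if_neg hs, zero_smul]) (fun h => absurd (Finset.mem_univ _) h),
    if_pos rfl, map_one, Module.End.one_apply, neg_smul, one_smul, neg_eq_zero] at h1
  exact hv0 h1

/-- the sum over `F` is zero if the sums over the cosets of the prime field are -/
theorem sum_eq_zero_of {F M : Type*} [Field F] [Fintype F] [CharP F 7] [AddCommGroup M] (f : F → M)
    (hf : ∀ x, ∑ k ∈ Finset.range 7, f (x + (k : F)) = 0) : ∑ x, f x = 0 := by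
  classical
  have : Fact (Nat.Prime 7) := ⟨by norm_num⟩
  set Z := AddSubgroup.zmultiples (1 : F) with hZ
  rw [← Finset.sum_fiberwise (s := Finset.univ) (g := fun x : F => (QuotientAddGroup.mk x : F ⧸ Z))]
  refine Finset.sum_eq_zero fun c _ => ?_
  obtain ⟨x, rfl⟩ := QuotientAddGroup.mk_surjective c
  rw [← hf x, ← Finset.sum_image (g := fun k : ℕ => x + (k : F))]
  · refine Finset.sum_congr ?_ fun _ _ => rfl
    ext y
    simp only [Finset.mem_filter, Finset.mem_univ, true_and, Finset.mem_image, Finset.mem_range]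
    constructor
    · intro hy
      have h1 : -x + y ∈ Z := QuotientAddGroup.eq.1 hy.symm
      obtain ⟨n, hn⟩ := AddSubgroup.mem_zmultiples_iff.1 h1
      refine ⟨(n % 7).toNat, by omega, ?_⟩
      have h2 : (((n % 7).toNat : ℕ) : F) = (n : F) := by
        have h3 : (((n % 7).toNat : ℕ) : ℤ) = n % 7 := Int.toNat_of_nonneg (by omega)
        have h4 : (((n % 7).toNat : ℕ) : F) = ((((n % 7).toNat : ℕ) : ℤ) : F) := (Int.cast_natCast _).symm
        rw [h4, h3, Int.emod_def]
        push_cast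
        have h7 := seven (F := F)
        rw [h7]; ring
      rw [h2, show (n : F) = n • (1 : F) from by simp, hn]
      ring
    · rintro ⟨k, _, rfl⟩
      symm
      rw [QuotientAddGroup.eq]
      refine AddSubgroup.mem_zmultiples_iff.2 ⟨k, ?_⟩
      simp
  · intro k hk l hl hkl
    simp only [Finset.coe_range, Set.mem_Iio] at hk hl
    have h1 : (k : F) = l := by simpa using hkl
    have h2 := (CharP.natCast_eq_natCast F 7).1 h1
    exact Nat.ModEq.eq_of_lt_of_lt h2 hk hl

end Cfsg.Agent.H214.Coef
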