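import Mathlib
import Cfsg.Agent.H214.Coef.Tests

/-!
# The unipotent radical of a Borel subgroup of `Sp₄(F)` and the torus (helper214)
-/

set_option autoImplicit false
set_option linter.unusedSimpArgs false
set_option linter.unnecessarySeqFocus false

namespace Cfsg.Agent.H214.Coef

open Matrix

variable {F : Type*} [Field F]

theorem one_mat (x : F) : !![1, x; 0, 1] * !![1, -x; 0, 1] = (1 : M2 F) := CF.hu x

theorem db_of {g : Sp4 F} {x : F} (h1 : cb g = 0) (h2 : ab g = !![1, x; 0, 1]) : db g = !![1, 0; -x, 1] := by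
  have h3 := rel3 g
  rw [h1, h2, transpose_zero, Matrix.zero_mul, sub_zero] at h3
  have h4 : !![1, 0; -x, 1] * (!![1, x; 0, 1] : M2 F)ᵀ = 1 := by
    ext i j; fin_cases i <;> fin_cases j <;> simp [Matrix.mul_apply]
  calc db g = (!![1, 0; -x, 1] * (!![1, x; 0, 1] : M2 F)ᵀ) * db g := by rw [h4, Matrix.one_mul]
    _ = !![1, 0; -x, 1] := by rw [Matrix.mul_assoc, h3, Matrix.mul_one]

/-- the group `U` -/
def UU : Subgroup (Sp4 F) where
  carrier := {g | cb g = 0 ∧ ∃ x, ab g = !![1, x; 0, 1]}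
  one_mem' := ⟨rfl, 0, by
    change (1 : Matrix (Fin 2 ⊕ Fin 2) (Fin 2 ⊕ Fin 2) F).toBlocks₁₁ = _
    rw [← fromBlocks_one, toBlocks_fromBlocks₁₁, Matrix.one_fin_two]⟩
  mul_mem' := by
    rintro g h ⟨hg, x, hx⟩ ⟨hh, y, hy⟩
    refine ⟨by rw [cb_mul, hg, hh]; simp, x + y, ?_⟩
    rw [ab_mul, hh, hx, hy, Matrix.mul_zero, add_zero]
    ext i j; fin_cases i <;> fin_cases j <;> simp [Matrix.mul_apply] <;> ring
  inv_mem' := by
    rintro g ⟨hg, x, hx⟩
    have e1 : cb (g⁻¹ * g) = 0 := by rw [inv_mul_cancel]; rfl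
    have e2 : ab (g⁻¹ * g) = 1 := by
      rw [inv_mul_cancel]
      change (1 : Matrix (Fin 2 ⊕ Fin 2) (Fin 2 ⊕ Fin 2) F).toBlocks₁₁ = _
      rw [← fromBlocks_one, toBlocks_fromBlocks₁₁]
    rw [cb_mul, hg, hx, Matrix.mul_zero, add_zero] at e1
    rw [ab_mul, hg, hx, Matrix.mul_zero, add_zero] at e2
    have h3 := one_mat x
    refine ⟨?_, -x, ?_⟩
    · calc cb g⁻¹ = cb g⁻¹ * !![1, x; 0, 1] * !![1, -x; 0, 1] := by rw [Matrix.mul_assoc, h3, Matrix.mul_one]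
        _ = 0 := by rw [e1, Matrix.zero_mul]
    · calc ab g⁻¹ = ab g⁻¹ * !![1, x; 0, 1] * !![1, -x; 0, 1] := by rw [Matrix.mul_assoc, h3, Matrix.mul_one]
        _ = _ := by rw [e2, Matrix.one_mul]

theorem mem_UU {g : Sp4 F} : g ∈ (UU : Subgroup (Sp4 F)) ↔ cb g = 0 ∧ ∃ x, ab g = !![1, x; 0, 1] := Iff.rfl

theorem up_mem (S : M2 F) (h) : up S h ∈ (UU : Subgroup (Sp4 F)) :=
  ⟨rfl, 0, by rw [ab_up]; exact Matrix.one_fin_two⟩

theorem lev_mem (x : F) (h) : lev !![1, x; 0, 1] !![1, -x; 0, 1] h ∈ (UU : Subgroup (Sp4 F)) := ⟨rfl, x, rfl⟩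

theorem pow_seven_UU [CharP F 7] {g : Sp4 F} (hg : g ∈ (UU : Subgroup (Sp4 F))) : g ^ 7 = 1 := by
  obtain ⟨h1, x, h2⟩ := hg
  have h3 := db_of h1 h2
  have : Fact (Nat.Prime 7) := ⟨by norm_num⟩
  set N : Matrix (Fin 2 ⊕ Fin 2) (Fin 2 ⊕ Fin 2) F := fromBlocks !![0, x; 0, 0] (bb g) 0 !![0, 0; -x, 0] with hN
  have e1 : mt g = N + 1 := by
    rw [mt_eq g, h1, h2, h3, hN, ← fromBlocks_one, fromBlocks_add]
    congr 1
    · ext i j; fin_cases i <;> fin_cases j <;> simp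
    · simp
    · simp
    · ext i j; fin_cases i <;> fin_cases j <;> simp
  have e2 : N ^ 4 = 0 := by
    have h5 : ∃ Z : M2 F, N * N = fromBlocks 0 Z 0 0 := by
      refine ⟨!![0, x; 0, 0] * bb g + bb g * !![0, 0; -x, 0], ?_⟩
      rw [hN, fromBlocks_multiply]
      congr 1
      · ext i j; fin_cases i <;> fin_cases j <;> simp [Matrix.mul_apply]
      · simp
      · ext i j; fin_cases i <;> fin_cases j <;> simp [Matrix.mul_apply]
    obtain ⟨Z, hZ⟩ := h5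
    have : N ^ 4 = (N * N) * (N * N) := by noncomm_ring
    rw [this, hZ, fromBlocks_multiply]
    simp [fromBlocks_zero]
  have e3 : N ^ 7 = 0 := by
    rw [show 7 = 4 + 3 from rfl, pow_add, e2, zero_mul]
  have e4 : mt g ^ 7 = 1 := by
    rw [e1, add_pow_char_of_commute _ (Commute.one_right N), e3, one_pow, zero_add]
  apply Subtype.ext
  change (g ^ 7).1 = 1
  rw [SubmonoidClass.coe_pow]
  exact e4

theorem isPGroup_UU [CharP F 7] : IsPGroup 7 ↥(UU : Subgroup (Sp4 F)) := fun g =>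
  ⟨1, Subtype.ext (by rw [pow_one]; exact pow_seven_UU g.2)⟩

/-- the torus -/
def tt (s t : Fˣ) : Sp4 F := lev !![(s : F), 0; 0, (t : F)] !![(s : F)⁻¹, 0; 0, (t : F)⁻¹] (CF.hd s t)

theorem tt_mul (s t s' t' : Fˣ) : tt s t * tt s' t' = tt (s * s') (t * t') := by
  apply sp_ext
  · rw [ab_mul, tt, tt, tt, ab_lev, bb_lev, ab_lev, cb_lev, ab_lev]
    ext i j; fin_cases i <;> fin_cases j <;> simp [Matrix.mul_apply]
  · rw [bb_mul, tt, tt, tt, ab_lev, bb_lev, bb_lev, bb_lev, db_lev]; simp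
  · rw [cb_mul, tt, tt, tt, ab_lev, db_lev, cb_lev, cb_lev, cb_lev]; simp
  · rw [db_mul, tt, tt, tt, cb_lev, db_lev, bb_lev, db_lev, db_lev]
    ext i j; fin_cases i <;> fin_cases j <;> simp [Matrix.mul_apply, mul_comm]

theorem tt_one : tt (1 : Fˣ) 1 = 1 := by
  have h := tt_mul (1 : Fˣ) 1 1 1
  rw [mul_one] at h
  exact mul_eq_left.1 h

theorem tt_inv (s t : Fˣ) : (tt s t)⁻¹ = tt s⁻¹ t⁻¹ := by
  rw [inv_eq_iff_mul_eq_one, tt_mul, mul_inv_cancel, mul_inv_cancel, tt_one]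

/-- the torus normalises `U` -/
theorem conj_mem (s t : Fˣ) {u : Sp4 F} (hu : u ∈ (UU : Subgroup (Sp4 F))) : (tt s t)⁻¹ * u * tt s t ∈ (UU : Subgroup (Sp4 F)) := by
  obtain ⟨h1, x, h2⟩ := hu
  rw [tt_inv]
  have hs : (s : F) ≠ 0 := s.ne_zero
  have ht : (t : F) ≠ 0 := t.ne_zero
  refine ⟨?_, (s : F)⁻¹ * x * t, ?_⟩
  · simp [cb_mul, db_mul, ab_mul, h1, h2, tt]
  · simp only [cb_mul, db_mul, ab_mul, bb_mul, h1, h2, tt, ab_lev, cb_lev, bb_lev, db_lev, Matrix.mul_zero, add_zero,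
      Matrix.zero_mul]
    ext i j; fin_cases i <;> fin_cases j <;> simp [Matrix.mul_apply, Fin.sum_univ_two]

/-- the root group `x ↦ lev [1 0; x 1]` -/
def rl (x : F) : Sp4 F := lev !![1, 0; x, 1] !![1, 0; -x, 1] (CF.hl x)

/-- the root group `x ↦ lo [0 0; 0 x]` -/
def ro (x : F) : Sp4 F := lo !![0, 0; 0, x] (CF.hsym x)

theorem rl_add (x y : F) : rl (x + y) = rl x * rl y := by
  apply sp_ext
  · rw [ab_mul, rl, rl, rl, ab_lev, bb_lev, ab_lev, cb_lev, ab_lev]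
    ext i j; fin_cases i <;> fin_cases j <;> simp [Matrix.mul_apply]
  · rw [bb_mul, rl, rl, rl, ab_lev, bb_lev, bb_lev, bb_lev, db_lev]; simp
  · rw [cb_mul, rl, rl, rl, ab_lev, db_lev, cb_lev, cb_lev, cb_lev]; simp
  · rw [db_mul, rl, rl, rl, cb_lev, db_lev, bb_lev, db_lev, db_lev]
    ext i j; fin_cases i <;> fin_cases j <;> simp [Matrix.mul_apply]

theorem ro_add (x y : F) : ro (x + y) = ro x * ro y := by
  apply sp_ext
  · rw [ab_mul, ro, ro, ro]; simp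
  · rw [bb_mul, ro, ro, ro]; simp
  · rw [cb_mul, ro, ro, ro]; simp
  · rw [db_mul, ro, ro, ro]; simp

theorem rl_ne {x : F} (hx : x ≠ 0) : rl x ≠ 1 := by
  intro h
  have h1 := congrArg ab h
  have h2 : ab (1 : Sp4 F) = 1 := by
    change (1 : Matrix (Fin 2 ⊕ Fin 2) (Fin 2 ⊕ Fin 2) F).toBlocks₁₁ = _
    rw [← fromBlocks_one, toBlocks_fromBlocks₁₁]
  rw [h2, rl, ab_lev] at h1
  have := congrFun (congrFun h1 1) 0
  simp at this
  exact hx this

theorem ro_ne {x : F} (hx : x ≠ 0) : ro x ≠ 1 := by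
  intro h
  have h1 := congrArg cb h
  have h2 : cb (1 : Sp4 F) = 0 := rfl
  rw [h2, ro, cb_lo] at h1
  have := congrFun (congrFun h1 1) 1
  simp at this
  exact hx this

theorem pow_of_add {f : F → Sp4 F} (hf : ∀ x y, f (x + y) = f x * f y) (x : F) (k : ℕ) : f x ^ k = f ((k : F) * x) := by
  have h0 : f 0 = 1 := by
    have h := hf 0 0
    rw [add_zero] at h
    exact (mul_eq_left.1 h.symm)
  induction k with
  | zero => rw [pow_zero, Nat.cast_zero, zero_mul, h0]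
  | succ k ih => rw [pow_succ, ih, ← hf, Nat.cast_succ]; congr 1; ring

end Cfsg.Agent.H214.Coef
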