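import Mathlib
import Cfsg.Agent.H214.Coef.Uni
import Cfsg.Agent.H214.Coef.Rep

/-!
# The matrix coefficient of an irreducible representation of `Sp₄(F)` with norm zero (helper214)
-/

set_option autoImplicit false

namespace Cfsg.Agent.H214.Coef

open Matrix

variable {F : Type*} [Field F] [Fintype F] [CharP F 7]
variable {Y : Type*} [AddCommGroup Y] [Module F Y]

/-- the assumptions -/
structure Good (ρ : Representation F (Sp4 F) Y) : Prop where
  nz : ∀ u : Sp4 F, u ^ 7 = 1 → u ≠ 1 → ∀ y : Y, ∑ k ∈ Finset.range 7, ρ (u ^ k) y = 0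
  neg : ∀ z : Sp4 F, mt z = -1 → ∀ y : Y, ρ z y = y

def Irr {G : Type*} [Group G] (ρ : Representation F G Y) : Prop :=
  Nontrivial Y ∧ ∀ W : Submodule F Y, (∀ g, ∀ w ∈ W, ρ g w ∈ W) → W = ⊥ ∨ W = ⊤

omit [Fintype F] [CharP F 7] in
theorem Irr.mem_of {G : Type*} [Group G] {ρ : Representation F G Y} (h : Irr ρ) {v : Y} (hv : v ≠ 0) (W : Submodule F Y)
    (hW : ∀ g, ∀ w ∈ W, ρ g w ∈ W) (hvW : v ∈ W) (y : Y) : y ∈ W := by
  rcases h.2 W hW with h1 | h1
  · rw [h1, Submodule.mem_bot] at hvW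
    exact absurd hvW hv
  · rw [h1]; trivial

omit [Fintype F] [CharP F 7] in
/-- the criterion -/
theorem Irr.criterion {G : Type*} [Group G] {ρ : Representation F G Y} (h : Irr ρ) {v : Y} (hv : v ≠ 0)
    {ξ : Module.Dual F Y} (hξ : ξ ≠ 0) {ι : Type*} (s : Finset ι) (θ : ι → F) (x : ι → G)
    (H : ∀ g1 g2 : G, ∑ i ∈ s, θ i * ξ (ρ (g1 * x i * g2) v) = 0) (y : Y) : ∑ i ∈ s, θ i • ρ (x i) y = 0 := by
  -- the common kernel of the functionals
  let W : Submodule F Y :=
    { carrier := {w | ∀ g, ξ (ρ g w) = 0}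
      add_mem' := fun {a b} ha hb g => by rw [map_add, map_add, ha g, hb g, add_zero]
      zero_mem' := fun g => by rw [map_zero, map_zero]
      smul_mem' := fun c a ha g => by rw [map_smul, map_smul, ha g, smul_zero] }
  have hW : ∀ g, ∀ w ∈ W, ρ g w ∈ W := by
    intro g w hw g'
    rw [← Module.End.mul_apply, ← map_mul]
    exact hw (g' * g)
  have hWb : W = ⊥ := by
    rcases h.2 W hW with h1 | h1
    · exact h1
    · exfalso
      apply hξ
      ext y
      have : y ∈ W := by rw [h1]; trivial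
      simpa using this 1
  -- the kernel of the operator
  let T : Submodule F Y :=
    { carrier := {w | ∀ g, ∑ i ∈ s, θ i • ρ (x i) (ρ g w) = 0}
      add_mem' := fun {a b} ha hb g => by
        simp only [map_add, smul_add, Finset.sum_add_distrib]
        rw [ha g, hb g, add_zero]
      zero_mem' := fun g => by simp
      smul_mem' := fun c a ha g => by
        have : ∀ i, θ i • ρ (x i) (ρ g (c • a)) = c • (θ i • ρ (x i) (ρ g a)) := fun i => by
          rw [map_smul, map_smul, smul_comm]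
        simp only [this]
        rw [← Finset.smul_sum, ha g, smul_zero] }
  have hT : ∀ g, ∀ w ∈ T, ρ g w ∈ T := by
    intro g w hw g'
    simp only [← Module.End.mul_apply, ← map_mul]
    simpa [← Module.End.mul_apply, ← map_mul] using hw (g' * g)
  have hvT : v ∈ T := by
    intro g2
    have h2 : (∑ i ∈ s, θ i • ρ (x i) (ρ g2 v)) ∈ W := by
      intro g1
      rw [← H g1 g2, map_sum, map_sum]
      refine Finset.sum_congr rfl fun i _ => ?_
      rw [map_smul, map_smul, smul_eq_mul, map_mul, map_mul]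
      rfl
    rw [hWb, Submodule.mem_bot] at h2
    exact h2
  have h3 := h.mem_of hv T hT hvT y
  simpa using h3 1

theorem coefficient [Finite Y] {ρ : Representation F (Sp4 F) Y} (hg : Good ρ) (h : Irr ρ) :
    ∃ (v : Y) (ξ : Module.Dual F Y) (κ : F) (b : ℕ), v ≠ 0 ∧ ξ ≠ 0 ∧ κ ≠ 0 ∧ (b = 0 ∨ ∃ i, b = 7 ^ i) ∧
      ∀ g, ξ (ρ g v) = κ * (cb g).det ^ b := by
  classical
  have := h.1
  -- `U`-fixed vectors
  let W0 : Submodule F Y :=
    { carrier := {w | ∀ u ∈ (UU : Subgroup (Sp4 F)), ρ u w = w}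
      add_mem' := fun {a b} ha hb g hg => by rw [map_add, ha g hg, hb g hg]
      zero_mem' := fun g _ => by rw [map_zero]
      smul_mem' := fun c a ha g hg => by rw [map_smul, ha g hg] }
  have hW0 : ∀ s t : Fˣ, ∀ w ∈ W0, ρ (tt s t) w ∈ W0 := by
    intro s t w hw u hu
    have h1 := hw _ (conj_mem s t hu)
    calc ρ u (ρ (tt s t) w) = ρ (tt s t) (ρ ((tt s t)⁻¹ * u * tt s t) w) := by
          rw [← Module.End.mul_apply, ← Module.End.mul_apply, ← map_mul, ← map_mul]; congr 2; group
      _ = _ := by rw [h1]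
  obtain ⟨v0, hv0, hv0'⟩ := exists_fixed ρ UU isPGroup_UU
  let φ1 : Fˣ →* (Y →ₗ[F] Y) :=
    { toFun := fun s => ρ (tt s 1)
      map_one' := by rw [tt_one, map_one]
      map_mul' := fun s s' => by rw [← map_mul, tt_mul, mul_one] }
  let φ2 : Fˣ →* (Y →ₗ[F] Y) :=
    { toFun := fun s => ρ (tt 1 s)
      map_one' := by rw [tt_one, map_one]
      map_mul' := fun s s' => by rw [← map_mul, tt_mul, mul_one] }
  have hφ1 : ∀ s, φ1 s = ρ (tt s 1) := fun _ => rfl
  have hφ2 : ∀ s, φ2 s = ρ (tt 1 s) := fun _ => rfl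
  obtain ⟨i, hi, w1, hw1, hw10, hw1s⟩ := exists_eigen φ1 W0 (fun s w hw => hW0 s 1 w hw) ⟨v0, hv0', hv0⟩
  let W1 : Submodule F Y :=
    { carrier := {w | w ∈ W0 ∧ ∀ s : Fˣ, φ1 s w = (s : F) ^ i • w}
      add_mem' := fun {a b} ha hb => ⟨W0.add_mem ha.1 hb.1, fun g => by rw [map_add, ha.2 g, hb.2 g, smul_add]⟩
      zero_mem' := ⟨W0.zero_mem, fun g => by rw [map_zero, smul_zero]⟩
      smul_mem' := fun c a ha => ⟨W0.smul_mem c ha.1, fun g => by rw [map_smul, ha.2 g, smul_comm]⟩ }
  obtain ⟨j, hj, v, hv, hv1, hvj⟩ := exists_eigen φ2 W1 (fun s w hw => ⟨hW0 1 s w hw.1, fun r => by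
    rw [hφ1, hφ2, ← Module.End.mul_apply, ← map_mul, tt_mul, mul_comm, mul_comm 1 s, ← tt_mul, map_mul,
      Module.End.mul_apply, ← hφ1, hw.2 r, map_smul]⟩) ⟨w1, ⟨hw1, hw1s⟩, hw10⟩
  -- the functional
  have : Nontrivial (Module.Dual F Y) := inferInstance
  have : Finite (Module.Dual F Y) := Finite.of_injective (fun f => (f : Y → F)) DFunLike.coe_injective
  obtain ⟨ξ, hξ, hξ'⟩ := exists_fixed ρ.dual UU isPGroup_UU
  have hξu : ∀ u ∈ (UU : Subgroup (Sp4 F)), ∀ y, ξ (ρ u y) = ξ y := by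
    intro u hu y
    have h1 := hξ' u⁻¹ (inv_mem hu)
    rw [Representation.dual_apply, inv_inv] at h1
    exact LinearMap.congr_fun h1 y
  set c : Sp4 F → F := fun g => ξ (ρ g v) with hc
  set a := (i + (Fintype.card F - 1) - j) % (Fintype.card F - 1) with ha
  have hq : 0 < Fintype.card F - 1 := by have := Fintype.one_lt_card (α := F); omega
  have hpow : ∀ s : Fˣ, (s : F) ^ (a + j) = (s : F) ^ i := by
    intro s
    have h1 : (s : F) ^ (Fintype.card F - 1) = 1 := FiniteField.pow_card_sub_one_eq_one _ s.ne_zero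
    have h2 : ∀ n : ℕ, (s : F) ^ n = (s : F) ^ (n % (Fintype.card F - 1)) := by
      intro n
      conv_lhs => rw [← Nat.div_add_mod n (Fintype.card F - 1)]
      rw [pow_add, pow_mul, h1, one_pow, one_mul]
    rw [h2 (a + j), h2 i]
    congr 1
    rw [ha, Nat.mod_add_mod]
    have : i + (Fintype.card F - 1) - j + j = i + (Fintype.card F - 1) := by omega
    rw [this, Nat.add_mod_right]
  have hcf : CF a j c := by
    refine ⟨Nat.mod_lt _ hq, hj, ?_, ?_, ?_, ?_, ?_, ?_, ?_⟩
    · intro S hS g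
      simp only [hc]
      rw [map_mul, Module.End.mul_apply, hξu _ (up_mem S hS)]
    · intro S hS g
      simp only [hc]
      rw [map_mul, Module.End.mul_apply, hv.1 _ (up_mem S hS)]
    · intro x hx g
      simp only [hc]
      rw [map_mul, Module.End.mul_apply, hξu _ (lev_mem x hx)]
    · intro x hx g
      simp only [hc]
      rw [map_mul, Module.End.mul_apply, hv.1 _ (lev_mem x hx)]
    · intro s t _ g
      simp only [hc]
      change ξ (ρ (g * tt s t) v) = _
      have h1 : tt s t = tt s 1 * tt 1 t := by rw [tt_mul, mul_one, one_mul]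
      rw [h1, map_mul, Module.End.mul_apply, map_mul, Module.End.mul_apply, ← hφ1, ← hφ2, hvj, map_smul, hv.2, map_smul,
        map_smul, map_smul, map_smul, smul_eq_mul, smul_eq_mul, hpow]
      ring
    · intro _ g
      simp only [hc]
      change ∑ x : F, ξ (ρ (g * rl x) v) = 0
      refine sum_eq_zero_of _ fun x => ?_
      have h1 : ∀ k : ℕ, ξ (ρ (g * rl (x + k)) v) = ξ (ρ (g * rl x) (ρ (rl 1 ^ k) v)) := by
        intro k
        rw [pow_of_add rl_add, mul_one, rl_add, ← Module.End.mul_apply, ← map_mul, mul_assoc]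
      simp only [h1]
      rw [← map_sum, ← map_sum, hg.nz (rl 1) ?_ (rl_ne one_ne_zero), map_zero, map_zero]
      rw [pow_of_add rl_add, show ((7 : ℕ) : F) = 0 from by exact_mod_cast seven (F := F), zero_mul]
      have := pow_of_add rl_add (1 : F) 0
      rw [pow_zero, Nat.cast_zero, zero_mul] at this
      exact this.symm
    · intro _ g
      simp only [hc]
      change ∑ x : F, ξ (ρ (g * ro x) v) = 0
      refine sum_eq_zero_of _ fun x => ?_
      have h1 : ∀ k : ℕ, ξ (ρ (g * ro (x + k)) v) = ξ (ρ (g * ro x) (ρ (ro 1 ^ k) v)) := by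
        intro k
        rw [pow_of_add ro_add, mul_one, ro_add, ← Module.End.mul_apply, ← map_mul, mul_assoc]
      simp only [h1]
      rw [← map_sum, ← map_sum, hg.nz (ro 1) ?_ (ro_ne one_ne_zero), map_zero, map_zero]
      rw [pow_of_add ro_add, show ((7 : ℕ) : F) = 0 from by exact_mod_cast seven (F := F), zero_mul]
      have := pow_of_add ro_add (1 : F) 0
      rw [pow_zero, Nat.cast_zero, zero_mul] at this
      exact this.symm
  have hform := hcf.formula
  -- `c` is not zero
  have hκ : c jj ≠ 0 := by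
    intro h0
    have h1 : ∀ g, ξ (ρ g v) = 0 := fun g => by
      have := hform g
      rw [h0, zero_mul] at this
      exact this
    obtain ⟨y, hy⟩ : ∃ y, ξ y ≠ 0 := by
      by_contra hne
      push Not at hne
      exact hξ (LinearMap.ext hne)
    have h2 := h.criterion hv1 hξ {()} (fun _ => (1 : F)) (fun _ => 1) (fun g1 g2 => by
      rw [Finset.sum_singleton, mul_one, h1, mul_zero]) y
    simp only [Finset.sum_singleton, map_one, Module.End.one_apply, one_smul] at h2
    rw [h2, map_zero] at hy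
    exact hy rfl
  -- parity
  have hev : a % 2 = 0 := by
    have h1 : mt (tt (-1 : Fˣ) (-1)) = -1 := by
      rw [mt_eq, tt, ab_lev, bb_lev, cb_lev, db_lev, ← fromBlocks_one, fromBlocks_neg]
      congr 1
      · ext i j; fin_cases i <;> fin_cases j <;> simp
      · simp
      · simp
      · ext i j; fin_cases i <;> fin_cases j <;> simp
    have h2 := hcf.tor (-1) (-1) (CF.hd _ _) jj
    have h3 : c (jj * tt (-1 : Fˣ) (-1)) = c jj := by
      simp only [hc]
      rw [map_mul, Module.End.mul_apply, hg.neg _ h1]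
    rw [show c (jj * lev !![((-1 : Fˣ) : F), 0; 0, ((-1 : Fˣ) : F)] !![((-1 : Fˣ) : F)⁻¹, 0; 0, ((-1 : Fˣ) : F)⁻¹] (CF.hd _ _)) =
      c jj from h3, Units.val_neg, Units.val_one, ← pow_add] at h2
    have h4 : (-1 : F) ^ (a + j + j) = 1 := by
      have := mul_right_cancel₀ hκ ((one_mul _).trans h2)
      exact this.symm
    by_contra hodd
    have h5 : Odd (a + j + j) := by
      rw [Nat.odd_iff]; omega
    rw [h5.neg_one_pow] at h4
    have h7 := seven (F := F)
    apply one_ne_zero (α := F)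
    linear_combination h7 + 3 * h4
  -- the tests
  have htest : ∀ g1 g2 : Sp4 F, ∑ k ∈ Finset.range 7, phi a j (cb (g1 * (uu (1 : F)) ^ k * g2)) = 0 := by
    intro g1 g2
    have hne : uu (1 : F) ≠ 1 := by
      intro h1
      have h2 := congrArg ab h1
      have h3 : ab (1 : Sp4 F) = 1 := by
        change (1 : Matrix (Fin 2 ⊕ Fin 2) (Fin 2 ⊕ Fin 2) F).toBlocks₁₁ = _
        rw [← fromBlocks_one, toBlocks_fromBlocks₁₁]
      rw [h3, ab_uu] at h2
      have := congrFun (congrFun h2 0) 1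
      simp at this
    have h1 := hg.nz (uu (1 : F)) uu_pow_seven hne (ρ g2 v)
    have h2 : ∑ k ∈ Finset.range 7, c (g1 * (uu (1 : F)) ^ k * g2) = 0 := by
      have h3 : ∀ k : ℕ, c (g1 * (uu (1 : F)) ^ k * g2) = ξ (ρ g1 (ρ ((uu (1 : F)) ^ k) (ρ g2 v))) := by
        intro k
        simp only [hc]
        rw [map_mul, map_mul]
        rfl
      simp only [h3]
      rw [← map_sum, ← map_sum, h1, map_zero, map_zero]
    rw [Finset.sum_congr rfl (fun k _ => hform (g1 * (uu (1 : F)) ^ k * g2)), ← Finset.mul_sum] at h2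
    exact (mul_eq_zero.1 h2).resolve_left hκ
  obtain ⟨ha0, hb⟩ := weight_of (by have := Nat.mod_lt (i + (Fintype.card F - 1) - j) hq; omega) (by omega) hev htest
  refine ⟨v, ξ, c jj, j, hv1, hξ, hκ, hb, fun g => ?_⟩
  have := hform g
  rw [phi, ha0, pow_zero, one_mul] at this
  exact this

end Cfsg.Agent.H214.Coef
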