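import Mathlib
import Cfsg.Agent.H214.Coef.Coeff

/-!
# Transfer between the irreducible representations with norm zero (helper214)
-/

set_option autoImplicit false

universe u

namespace Cfsg.Agent.H214.Coef

open Matrix

variable {F : Type*} [Field F] [Fintype F] [CharP F 7] {P : Type*} [Group P]

/-- elements of order 7 have norm zero -/
def NZ {Y : Type*} [AddCommGroup Y] [Module F Y] (σ : Representation F P Y) : Prop :=
  ∀ u : P, orderOf u = 7 → ∀ y : Y, ∑ k ∈ Finset.range 7, σ (u ^ k) y = 0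

omit [Fintype F] in
theorem good_of (π : Sp4 F →* P) (hπ : ∀ g, π g = 1 ↔ mt g = 1 ∨ mt g = -1) {Y : Type*} [AddCommGroup Y] [Module F Y]
    {σ : Representation F P Y} (h : NZ σ) : Good (σ.comp π) where
  nz u hu hu1 y := by
    have h1 : orderOf (π u) = 7 := by
      refine orderOf_eq_prime (p := 7) (hp := ⟨by norm_num⟩) (by rw [← map_pow, hu, map_one]) ?_
      intro h2
      rcases (hπ u).1 h2 with h3 | h3
      · exact hu1 (Subtype.ext h3)
      · have h4 : mt (u ^ 7) = mt u ^ 7 := SubmonoidClass.coe_pow _ _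
        rw [hu, h3, mt_one, Odd.neg_one_pow (by decide)] at h4
        have h5 := congrFun (congrFun h4 (Sum.inl 0)) (Sum.inl 0)
        simp only [Matrix.neg_apply, Matrix.one_apply_eq] at h5
        have h7 := seven (F := F)
        apply one_ne_zero (α := F)
        linear_combination h7 - 3 * h5
    have h2 := h _ h1 y
    simpa using h2
  neg z hz y := by
    have : π z = 1 := (hπ z).2 (Or.inr hz)
    simp [this]

omit [Fintype F] [CharP F 7] in
theorem irr_of {π : Sp4 F →* P} (hs : Function.Surjective π) {Y : Type*} [AddCommGroup Y] [Module F Y]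
    {σ : Representation F P Y} (h : Irr σ) : Irr (σ.comp π) := by
  refine ⟨h.1, fun W hW => h.2 W fun g w hw => ?_⟩
  obtain ⟨g', rfl⟩ := hs g
  exact hW g' w hw

/-- the form of the coefficient function -/
theorem exists_coeff {π : Sp4 F →* P} (hs : Function.Surjective π) (hπ : ∀ g, π g = 1 ↔ mt g = 1 ∨ mt g = -1)
    {Y : Type*} [AddCommGroup Y] [Module F Y] [Finite Y] {σ : Representation F P Y} (h : NZ σ) (hi : Irr σ) :
    ∃ (v : Y) (ξ : Module.Dual F Y) (κ : F) (b : ℕ), v ≠ 0 ∧ ξ ≠ 0 ∧ κ ≠ 0 ∧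
      (((b = 0) ∧ ∀ g y, σ g y = y) ∨ ∃ i, b = 7 ^ i) ∧ ∀ g, ξ (σ (π g) v) = κ * (cb g).det ^ b := by
  obtain ⟨v, ξ, κ, b, hv, hξ, hκ, hb, hc⟩ := coefficient (good_of π hπ h) (irr_of hs hi)
  refine ⟨v, ξ, κ, b, hv, hξ, hκ, ?_, hc⟩
  refine hb.imp_left fun hb0 => ⟨hb0, fun g y => ?_⟩
  have h1 : ∀ g : P, ξ (σ g v) = κ := by
    intro g
    obtain ⟨g', rfl⟩ := hs g
    have := hc g'
    rw [hb0, pow_zero, mul_one] at this
    exact this
  have h2 := hi.criterion hv hξ Finset.univ (![1, -1] : Fin 2 → F) (![g, 1] : Fin 2 → P) (fun g1 g2 => by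
    rw [Fin.sum_univ_two, h1, h1]; simp) y
  rw [Fin.sum_univ_two] at h2
  simp at h2
  exact sub_eq_zero.1 (by rw [sub_eq_add_neg]; exact h2)

omit [Fintype F] in
theorem frob_sum {ι : Type*} (s : Finset ι) (θ : ι → ℤ) (d : ι → F) (i : ℕ) :
    ∑ j ∈ s, (θ j : F) * d j ^ (7 ^ i) = (∑ j ∈ s, (θ j : F) * d j) ^ (7 ^ i) := by
  have : Fact (Nat.Prime 7) := ⟨by norm_num⟩
  rw [← iterateFrobenius_def, map_sum]
  refine Finset.sum_congr rfl fun j _ => ?_
  rw [map_mul, map_intCast, iterateFrobenius_def]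

/-- two nontrivial irreducible representations with norm zero -/
theorem transfer {π : Sp4 F →* P} (hs : Function.Surjective π) (hπ : ∀ g, π g = 1 ↔ mt g = 1 ∨ mt g = -1)
    {Y₁ : Type*} [AddCommGroup Y₁] [Module F Y₁] [Finite Y₁] {σ₁ : Representation F P Y₁} (h₁ : NZ σ₁) (hi₁ : Irr σ₁)
    {Y₂ : Type*} [AddCommGroup Y₂] [Module F Y₂] [Finite Y₂] {σ₂ : Representation F P Y₂} (h₂ : NZ σ₂) (hi₂ : Irr σ₂)
    (hn₁ : ¬ ∀ g y, σ₁ g y = y) {ι : Type*} (s : Finset ι) (θ : ι → ℤ) (x : ι → P)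
    (hsum : (∃ (g : P) (y : Y₂), σ₂ g y ≠ y) ∨ ∑ i ∈ s, (θ i : F) = 0)
    (H : ∀ y : Y₁, ∑ i ∈ s, (θ i : F) • σ₁ (x i) y = 0) (y : Y₂) : ∑ i ∈ s, (θ i : F) • σ₂ (x i) y = 0 := by
  obtain ⟨v₁, ξ₁, κ₁, b₁, hv₁, hξ₁, hκ₁, hb₁, hc₁⟩ := exists_coeff hs hπ h₁ hi₁
  obtain ⟨v₂, ξ₂, κ₂, b₂, hv₂, hξ₂, hκ₂, hb₂, hc₂⟩ := exists_coeff hs hπ h₂ hi₂
  obtain ⟨i, rfl⟩ := hb₁.resolve_left fun h => hn₁ h.2
  choose x' hx' using hs
  have hd : ∀ g1 g2 : Sp4 F, ∑ j ∈ s, (θ j : F) * (cb (g1 * x' (x j) * g2)).det = 0 := by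
    intro g1 g2
    have h1 : ∑ j ∈ s, (θ j : F) * (cb (g1 * x' (x j) * g2)).det ^ (7 ^ i) = 0 := by
      have h2 := H (σ₁ (π g2) v₁)
      have h3 := congrArg (fun z => ξ₁ (σ₁ (π g1) z)) h2
      simp only [map_zero, map_sum, map_smul, smul_eq_mul] at h3
      have h4 : ∀ j, ξ₁ (σ₁ (π g1) (σ₁ (x j) (σ₁ (π g2) v₁))) = κ₁ * (cb (g1 * x' (x j) * g2)).det ^ (7 ^ i) := by
        intro j
        rw [← hc₁, π.map_mul, π.map_mul, hx', map_mul, map_mul]
        rfl
      simp only [h4] at h3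
      have h5 : κ₁ * ∑ j ∈ s, (θ j : F) * (cb (g1 * x' (x j) * g2)).det ^ (7 ^ i) = 0 := by
        rw [Finset.mul_sum, ← h3]
        refine Finset.sum_congr rfl fun j _ => by ring
      exact (mul_eq_zero.1 h5).resolve_left hκ₁
    rw [frob_sum] at h1
    exact eq_zero_of_pow_eq_zero h1
  refine hi₂.criterion hv₂ hξ₂ s _ x (fun g1 g2 => ?_) y
  obtain ⟨g1', rfl⟩ : ∃ g1', π g1' = g1 := ⟨x' g1, hx' g1⟩
  obtain ⟨g2', rfl⟩ : ∃ g2', π g2' = g2 := ⟨x' g2, hx' g2⟩
  have h6 : ∀ j, ξ₂ (σ₂ (π g1' * x j * π g2') v₂) = κ₂ * (cb (g1' * x' (x j) * g2')).det ^ b₂ := by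
    intro j
    rw [← hc₂, π.map_mul, π.map_mul, hx']
  simp only [h6]
  have h7 : ∑ j ∈ s, (θ j : F) * (κ₂ * (cb (g1' * x' (x j) * g2')).det ^ b₂) =
      κ₂ * ∑ j ∈ s, (θ j : F) * (cb (g1' * x' (x j) * g2')).det ^ b₂ := by
    rw [Finset.mul_sum]
    refine Finset.sum_congr rfl fun j _ => by ring
  rw [h7]
  rcases hb₂ with ⟨hb0, htr⟩ | ⟨k, rfl⟩
  · rcases hsum with ⟨g, y, hgy⟩ | hsum
    · exact absurd (htr g y) hgy
    · rw [hb0]
      simp [hsum]
  · rw [frob_sum, hd, zero_pow (by positivity), mul_zero]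

/-! ### reduction to irreducible representations -/

section red

variable {ι : Type*} (s : Finset ι) (θ : ι → ℤ) (x : ι → P)

/-- the operator -/
def op {Y : Type*} [AddCommGroup Y] [Module F Y] (σ : Representation F P Y) (y : Y) : Y := ∑ i ∈ s, (θ i : F) • σ (x i) y

omit [Fintype F] [CharP F 7] in
theorem red [Finite P] (m : ℤ) (hm : (m : F) ≠ 0)
    (H : ∀ (Y : Type u) [AddCommGroup Y] [Module F Y] [Finite Y] (σ : Representation F P Y), NZ σ → Irr σ →
      ∀ y : Y, op s θ x σ y = 0) :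
    ∀ (n : ℕ) (Y : Type u) [AddCommGroup Y] [Module F Y] [Finite Y] (σ : Representation F P Y), Nat.card Y = n → NZ σ →
      (∀ y, op s θ x σ (op s θ x σ y) = (m : F) • op s θ x σ y) → ∀ y : Y, op s θ x σ y = 0 := by
  intro n
  induction n using Nat.strong_induction_on with
  | _ n ih =>
    intro Y _ _ _ σ hn hz hsq
    by_cases hi : Irr σ
    · exact H Y σ hz hi
    by_cases hnt : Nontrivial Y
    swap
    · rw [not_nontrivial_iff_subsingleton] at hnt
      exact fun y => Subsingleton.elim _ _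
    rw [Irr] at hi
    push Not at hi
    obtain ⟨W, hW, hW0, hW1⟩ := hi hnt
    -- subrepresentation
    let σW : Representation F P ↥W :=
      { toFun := fun g => (σ g).restrict (hW g)
        map_one' := by ext; simp
        map_mul' := fun a b => by ext; simp }
    have hσW : ∀ g (w : ↥W), ((σW g w : ↥W) : Y) = σ g (w : Y) := fun _ _ => rfl
    have hopW : ∀ w : ↥W, ((op s θ x σW w : ↥W) : Y) = op s θ x σ (w : Y) := by
      intro w
      simp only [op]
      rw [AddSubmonoidClass.coe_finsetSum]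
      rfl
    let σQ : Representation F P (Y ⧸ W) :=
      { toFun := fun g => W.mapQ W (σ g) (hW g)
        map_one' := by ext; simp
        map_mul' := fun a b => by ext; simp }
    have hσQ : ∀ g (w : Y), σQ g (W.mkQ w) = W.mkQ (σ g w) := fun _ _ => rfl
    have hopQ : ∀ w : Y, op s θ x σQ (W.mkQ w) = W.mkQ (op s θ x σ w) := by
      intro w
      simp only [op]
      rw [map_sum]
      refine Finset.sum_congr rfl fun i _ => ?_
      rw [map_smul, hσQ]
    have hfQ : Finite (Y ⧸ W) := Finite.of_surjective W.mkQ W.mkQ_surjective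
    have hcard : Nat.card Y = Nat.card ↥W * Nat.card (Y ⧸ W) := Submodule.card_eq_card_quotient_mul_card W
    have hc1 : 1 < Nat.card ↥W := by
      have : Nontrivial ↥W := Submodule.nontrivial_iff_ne_bot.2 hW0
      exact Finite.one_lt_card
    have hc2 : 1 < Nat.card (Y ⧸ W) := by
      have : Nontrivial (Y ⧸ W) := Submodule.Quotient.nontrivial_iff.2 hW1
      exact Finite.one_lt_card
    have hcardW : Nat.card ↥W < n := by
      rw [← hn, hcard]
      exact lt_mul_of_one_lt_right (by omega) hc2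
    have hcardQ : Nat.card (Y ⧸ W) < n := by
      rw [← hn, hcard]
      exact lt_mul_of_one_lt_left (by omega) hc1
    have hzW : ∀ w : ↥W, op s θ x σW w = 0 := by
      refine ih _ hcardW ↥W σW rfl ?_ ?_
      · intro u hu w
        apply Subtype.ext
        rw [AddSubmonoidClass.coe_finsetSum, ZeroMemClass.coe_zero, ← hz u hu (w : Y)]
        rfl
      · intro w
        apply Subtype.ext
        rw [hopW, hopW, hsq, ← hopW]
        rfl
    have hzQ : ∀ w : Y ⧸ W, op s θ x σQ w = 0 := by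
      refine ih _ hcardQ (Y ⧸ W) σQ rfl ?_ ?_
      · intro u hu w
        obtain ⟨w, rfl⟩ := W.mkQ_surjective w
        simp only [hσQ]
        rw [← map_sum, hz u hu, map_zero]
      · intro w
        obtain ⟨w, rfl⟩ := W.mkQ_surjective w
        rw [hopQ, hopQ, hsq, map_smul]
    intro y
    have h1 : op s θ x σ y ∈ W := by
      have := hzQ (W.mkQ y)
      rw [hopQ, Submodule.mkQ_apply, Submodule.Quotient.mk_eq_zero] at this
      exact this
    have h2 := hopW ⟨_, h1⟩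
    rw [hzW, hsq] at h2
    exact (smul_eq_zero.1 h2.symm).resolve_left hm

end red

end Cfsg.Agent.H214.Coef
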