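import Mathlib
import Cfsg.Agent.H214.Coef.Transfer
import Cfsg.Agent.LieClassical.OmegaFive
import Cfsg.Agent.LieClassical.SympCenter
import Cfsg.Agent.H925.OrthBasic
import Cfsg.Agent.H922.OddForm
import Cfsg.Agent.H214.S69.Defs

/-!
# The natural module of `Ω₅(F)` in characteristic 7 (helper214)
-/

set_option autoImplicit false

namespace Cfsg.Agent.H214.Coef

open Matrix Cfsg.Agent.H214.S69 Cfsg.Agent.LieClassical.OmegaFive

abbrev J5 := Unit ⊕ (Fin 2 ⊕ Fin 2)

section general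

variable {F : Type*} [Field F]

theorem scalar_cases {g : Sp4 F} {a : F} (h : g.1 = a • 1) : mt g = 1 ∨ mt g = -1 := by
  have h1 : a * a = 1 := by
    have := g.2
    rw [h] at this
    exact Cfsg.Agent.LieClassical.SympCenter.sq_eq_one_of_smul_mem (by norm_num) this
  rcases mul_self_eq_one_iff.1 h1 with rfl | rfl
  · left; exact h.trans (one_smul _ _)
  · right; exact h.trans (by rw [neg_smul, one_smul])

theorem piP (g : Sp4 F) : QuotientGroup.mk' (Subgroup.center (Matrix.symplecticGroup (Fin 2) F)) g = 1 ↔ mt g = 1 ∨ mt g = -1 := by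
  rw [QuotientGroup.mk'_apply, QuotientGroup.eq_one_iff]
  constructor
  · intro h
    obtain ⟨a, ha⟩ := (Cfsg.Agent.LieClassical.SympCenter.mem_center_iff 2 g).1 h
    exact scalar_cases ha
  · rintro (h | h)
    · exact (Cfsg.Agent.LieClassical.SympCenter.mem_center_iff 2 g).2 ⟨1, h.trans (one_smul _ _).symm⟩
    · exact (Cfsg.Agent.LieClassical.SympCenter.mem_center_iff 2 g).2 ⟨-1, h.trans (by rw [neg_smul, one_smul])⟩

/-- the kernel of `Sp₄ → Ω₅` -/
theorem piO [Finite F] (h2 : (2 : F) ≠ 0) (g : Sp4 F) : rhoOmega h2 g = 1 ↔ mt g = 1 ∨ mt g = -1 := by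
  constructor
  · intro h
    have h1 : Cfsg.Agent.LieClassical.CliffordFive.rho h2 g = Cfsg.Agent.LieClassical.CliffordFive.rho h2 1 := by
      have := congrArg Subtype.val h
      rw [coe_rhoOmega] at this
      rw [this, map_one]
      rfl
    obtain ⟨c, hc⟩ := Cfsg.Agent.LieClassical.CliffordFive.eq_smul_of_rho_eq h2 g 1 h1
    exact scalar_cases hc
  · intro h
    apply Subtype.ext
    rw [coe_rhoOmega]
    refine Cfsg.Agent.LieClassical.CliffordFive.rho_eq_of h2 g 1 fun v => ?_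
    have h3 : ((1 : ↥(Cfsg.isometryGroup F (Cfsg.quadFormOdd 2 F))) : Matrix.GeneralLinearGroup J5 F).val = 1 := rfl
    rw [h3, Matrix.one_mulVec]
    rcases h with h | h
    · change _ * mt g = mt g * _
      rw [h]; simp
    · change _ * mt g = mt g * _
      rw [h]; simp

/-! ### norm zero -/

theorem sum_pow_eq [CharP F 7] : ∑ k ∈ Finset.range 7, (Polynomial.X : Polynomial F) ^ k = (Polynomial.X - 1) ^ 6 := by
  have : Fact (Nat.Prime 7) := ⟨by norm_num⟩
  have h1 : (Polynomial.X - 1 : Polynomial F) ≠ 0 := by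
    rw [← Polynomial.C_1]; exact Polynomial.X_sub_C_ne_zero 1
  apply mul_right_cancel₀ h1
  rw [geom_sum_mul, ← pow_succ, sub_pow_char]
  simp

theorem sum_mat [CharP F 7] {n : Type*} [Fintype n] [DecidableEq n] (hn : Fintype.card n ≤ 6) {M : Matrix n n F}
    (hM : M ^ 7 = 1) : ∑ k ∈ Finset.range 7, M ^ k = 0 := by
  have : Fact (Nat.Prime 7) := ⟨by norm_num⟩
  have e1 : ∑ k ∈ Finset.range 7, M ^ k = (M - 1) ^ 6 := by
    have := congrArg (Polynomial.aeval M) (sum_pow_eq (F := F))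
    simpa using this
  rw [e1]
  have e2 : (M - 1) ^ 7 = 0 := by
    rcases isEmpty_or_nonempty n with he | he
    · exact Subsingleton.elim _ _
    rw [sub_pow_char_of_commute _ (Commute.one_right M), hM, one_pow, sub_self]
  have e3 : minpoly F (M - 1) ∣ Polynomial.X ^ 7 := minpoly.dvd F _ (by simp [e2])
  obtain ⟨k, hk, hk'⟩ := (dvd_prime_pow Polynomial.prime_X 7).1 e3
  have e4 : minpoly F (M - 1) ∣ (M - 1).charpoly := Matrix.minpoly_dvd_charpoly _
  have e5 : (minpoly F (M - 1)).natDegree ≤ Fintype.card n := by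
    rw [← Matrix.charpoly_natDegree_eq_dim (M - 1)]
    exact Polynomial.natDegree_le_of_dvd e4 (Matrix.charpoly_monic _).ne_zero
  have e6 : minpoly F (M - 1) = Polynomial.X ^ k :=
    Polynomial.eq_of_monic_of_associated (minpoly.monic (Matrix.isIntegral _)) (Polynomial.monic_X_pow k) hk'
  rw [e6, Polynomial.natDegree_X_pow] at e5
  have e7 := minpoly.aeval F (M - 1)
  rw [e6] at e7
  simp only [map_pow, Polynomial.aeval_X] at e7
  rw [← Nat.sub_add_cancel (show k ≤ 6 by omega), pow_add, e7, mul_zero]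

/-! ### eigenvalue one -/

/-- the Gram matrix -/
def gj (F : Type*) [Field F] : Matrix J5 J5 F := fromBlocks (Matrix.of fun _ _ => 2) 0 0 (fromBlocks 0 1 1 0)

theorem gj_spec (u v : J5 → F) : u ⬝ᵥ (gj F *ᵥ v) = Cfsg.quadFormOdd 2 F (u + v) - Cfsg.quadFormOdd 2 F u -
    Cfsg.quadFormOdd 2 F v := by
  simp only [Cfsg.quadFormOdd, gj, dotProduct, Matrix.mulVec, Fintype.sum_sum_type, Fin.sum_univ_two, Pi.add_apply]
  simp [fromBlocks]
  ring

theorem gj_inv (h2 : (2 : F) ≠ 0) : gj F * fromBlocks (Matrix.of fun _ _ => 2⁻¹) 0 0 (fromBlocks 0 1 1 0) = 1 := by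
  rw [gj, fromBlocks_multiply, fromBlocks_multiply]
  have : ((Matrix.of fun _ _ => 2 : Matrix Unit Unit F) * (Matrix.of fun _ _ => 2⁻¹ : Matrix Unit Unit F)) = 1 := by
    ext i j
    simp [Matrix.mul_apply, h2]
  simp only [Matrix.mul_zero, Matrix.zero_mul, add_zero, zero_add, Matrix.mul_one, this, fromBlocks_one]

theorem det_sub_one (h2 : (2 : F) ≠ 0) {M : Matrix J5 J5 F} (hd : M.det = 1)
    (hM : ∀ v, Cfsg.quadFormOdd 2 F (M *ᵥ v) = Cfsg.quadFormOdd 2 F v) : (M - 1).det = 0 := by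
  have h1 : Mᵀ * gj F * M = gj F := by
    have h3 : ∀ u v : J5 → F, u ⬝ᵥ ((Mᵀ * gj F * M) *ᵥ v) = u ⬝ᵥ (gj F *ᵥ v) := by
      intro u v
      have e1 : u ⬝ᵥ ((Mᵀ * gj F * M) *ᵥ v) = (M *ᵥ u) ⬝ᵥ (gj F *ᵥ (M *ᵥ v)) := by
        rw [Matrix.mul_assoc, ← Matrix.mulVec_mulVec, ← Matrix.mulVec_mulVec, Matrix.dotProduct_mulVec,
          Matrix.vecMul_transpose]
      rw [e1, gj_spec, gj_spec, ← Matrix.mulVec_add, hM, hM, hM]
    ext i j
    have := h3 (Pi.single i 1) (Pi.single j 1)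
    simpa using this
  have h3 : Mᵀ * gj F * (M - 1) = (1 - M)ᵀ * gj F := by
    rw [Matrix.mul_sub, h1, Matrix.mul_one, transpose_sub, transpose_one, Matrix.sub_mul, Matrix.one_mul]
  have h4 := congrArg Matrix.det h3
  rw [Matrix.det_mul, Matrix.det_mul, Matrix.det_transpose, hd, one_mul, Matrix.det_mul, Matrix.det_transpose,
    show (1 - M) = -(M - 1) by abel, Matrix.det_neg] at h4
  have h5 : Fintype.card J5 = 5 := by simp
  have h6 : (gj F).det ≠ 0 := by
    intro h0
    have := congrArg Matrix.det (gj_inv h2)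
    rw [Matrix.det_mul, h0, zero_mul, Matrix.det_one] at this
    exact zero_ne_one this
  rw [h5] at h4
  have h7 : 2 * ((gj F).det * (M - 1).det) = 0 := by linear_combination h4
  exact (mul_eq_zero.1 ((mul_eq_zero.1 h7).resolve_left h2)).resolve_left h6

theorem mat_iso (s : Om5 F) (v : J5 → F) : Cfsg.quadFormOdd 2 F (Om5.mat s *ᵥ v) = Cfsg.quadFormOdd 2 F v :=
  Cfsg.Agent.H925.mem_iso_iff.1 (s : ↥(Cfsg.isometryGroup F (Cfsg.quadFormOdd 2 F))).2 v

theorem mat_mul (s t : Om5 F) : Om5.mat (s * t) = Om5.mat s * Om5.mat t := rfl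
theorem mat_one : Om5.mat (1 : Om5 F) = 1 := rfl

theorem mat_det (s : Om5 F) : (Om5.mat s).det = 1 := by
  let d : ↥(Cfsg.isometryGroup F (Cfsg.quadFormOdd 2 F)) →* Fˣ :=
    Matrix.GeneralLinearGroup.det.comp (Subgroup.subtype _)
  have h1 : (s : ↥(Cfsg.isometryGroup F (Cfsg.quadFormOdd 2 F))) ∈ d.ker := Abelianization.commutator_subset_ker d s.2
  have h2 : Matrix.GeneralLinearGroup.det (((s : ↥(Cfsg.isometryGroup F (Cfsg.quadFormOdd 2 F))) :
      Matrix.GeneralLinearGroup J5 F)) = 1 := MonoidHom.mem_ker.1 h1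
  have h3 := congrArg Units.val h2
  rwa [Matrix.GeneralLinearGroup.val_det_apply, Units.val_one] at h3

theorem exists_fix (h2 : (2 : F) ≠ 0) (s : Om5 F) : ∃ v : J5 → F, v ≠ 0 ∧ Om5.mat s *ᵥ v = v := by
  obtain ⟨v, hv, hv'⟩ := Matrix.exists_mulVec_eq_zero_iff.2 (det_sub_one h2 (mat_det s) (mat_iso s))
  refine ⟨v, hv, ?_⟩
  rw [Matrix.sub_mulVec, Matrix.one_mulVec] at hv'
  exact sub_eq_zero.1 hv'

/-- the natural representation -/
def natRep (F : Type*) [Field F] : Representation F (Om5 F) (J5 → F) where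
  toFun s := Matrix.mulVecLin (Om5.mat s)
  map_one' := by rw [mat_one, Matrix.mulVecLin_one]; rfl
  map_mul' s t := by rw [mat_mul, Matrix.mulVecLin_mul]; rfl

theorem natRep_apply (s : Om5 F) (v : J5 → F) : natRep F s v = Om5.mat s *ᵥ v := rfl

theorem natRep_nz [CharP F 7] : NZ (natRep F) := by
  intro u hu y
  have h1 : Om5.mat u ^ 7 = 1 := by
    have h2 : ∀ k : ℕ, Om5.mat (u ^ k) = Om5.mat u ^ k := by
      intro k
      induction k with
      | zero => rw [pow_zero, pow_zero, mat_one]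
      | succ k ih => rw [pow_succ, pow_succ, mat_mul, ih]
    rw [← h2, ← hu, pow_orderOf_eq_one, mat_one]
  have h2 := sum_mat (n := J5) (by simp) h1
  have h3 : ∀ k : ℕ, natRep F (u ^ k) y = (Om5.mat u ^ k) *ᵥ y := by
    intro k
    rw [natRep_apply]
    congr 1
  simp only [h3]
  rw [← Matrix.sum_mulVec, h2, Matrix.zero_mulVec]

theorem natRep_irr [Finite F] (h2 : (2 : F) ≠ 0) : Irr (natRep F) := by
  refine ⟨inferInstance, fun W hW => ?_⟩
  refine Cfsg.Agent.H925.omegaGL_irreducible (Cfsg.Agent.H922.isNondegenerateQuadraticForm_quadFormOdd 2 h2) (by simp) W ?_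
  rintro _ ⟨g, hg, rfl⟩ w hw
  exact hW ⟨g, hg⟩ w hw

theorem natRep_nontriv [Finite F] [CharP F 7] (h2 : (2 : F) ≠ 0) : ¬ ∀ g y, natRep F g y = y := by
  intro h
  have h1 : rhoOmega h2 (uu (1 : F)) = 1 := by
    apply Subtype.ext
    apply Subtype.ext
    apply Units.ext
    have h3 : ∀ y : J5 → F, Om5.mat (rhoOmega h2 (uu (1 : F))) *ᵥ y = y := fun y => h _ y
    have h4 : Om5.mat (rhoOmega h2 (uu (1 : F))) = 1 := by
      apply Matrix.ext_of_mulVec_single
      intro i
      rw [h3, Matrix.one_mulVec]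
    exact h4
  rcases (piO h2 _).1 h1 with h3 | h3
  · have h4 := congrArg Matrix.toBlocks₁₁ h3
    change ab (uu (1 : F)) = _ at h4
    rw [← fromBlocks_one, toBlocks_fromBlocks₁₁, ab_uu] at h4
    have := congrFun (congrFun h4 0) 1
    simp at this
  · have h4 := congrArg Matrix.toBlocks₁₁ h3
    change ab (uu (1 : F)) = _ at h4
    rw [← fromBlocks_one, fromBlocks_neg, toBlocks_fromBlocks₁₁, ab_uu] at h4
    have := congrFun (congrFun h4 0) 1
    simp at this

end general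

end Cfsg.Agent.H214.Coef
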