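import Mathlib
import Cfsg.Agent.H214.Coef.Nat5

/-!
# Modules of `Ω₅(F)`, `PSp₄(F)` with norm zero in characteristic 7 (helper214)
-/

set_option autoImplicit false

universe u v w

namespace Cfsg.Agent.H214.Coef

open Matrix Cfsg.Agent.H214.S69 Cfsg.Agent.LieClassical.OmegaFive

section dual

variable {F : Type u} [Field F] {P : Type v} [Group P] (W : Type w) [AddCommGroup W] [DistribMulAction P W]

/-- `Hom(W, F)` -/
def dualRep (F : Type u) [Field F] (P : Type v) [Group P] (W : Type w) [AddCommGroup W] [DistribMulAction P W] :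
    Representation F P (W →+ F) where
  toFun g :=
    { toFun := fun f => f.comp (DistribSMul.toAddMonoidHom W g⁻¹)
      map_add' := fun f f' => by ext; rfl
      map_smul' := fun c f => by ext; rfl }
  map_one' := by
    ext f w
    change f ((1 : P)⁻¹ • w) = f w
    rw [inv_one, one_smul]
  map_mul' g h := by
    ext f w
    change f ((g * h)⁻¹ • w) = f (h⁻¹ • g⁻¹ • w)
    rw [_root_.mul_inv_rev, mul_smul]

variable {W}

theorem dualRep_apply (g : P) (f : W →+ F) (w : W) : dualRep F P W g f w = f (g⁻¹ • w) := rfl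

theorem dualRep_nz (h : NormZero 7 P W) : NZ (dualRep F P W) := by
  intro u hu f
  ext w
  rw [AddMonoidHom.finsetSum_apply]
  simp only [dualRep_apply]
  rw [← map_sum, AddMonoidHom.zero_apply]
  have h1 := h u⁻¹ (by rw [orderOf_inv, hu]) w
  simp only [inv_pow] at h1
  rw [h1, map_zero]

theorem dual_sep [CharP F 7] (h7 : ∀ x : W, 7 • x = 0) {w : W} (h : ∀ f : W →+ F, f w = 0) : w = 0 := by
  have : Fact (Nat.Prime 7) := ⟨by norm_num⟩
  let _ : Module (ZMod 7) W := AddCommGroup.zmodModule h7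
  let _ : Algebra (ZMod 7) F := ZMod.algebra F 7
  rw [← Module.forall_dual_apply_eq_zero_iff (ZMod 7)]
  intro φ
  have h1 := h ((algebraMap (ZMod 7) F).toAddMonoidHom.comp φ.toAddMonoidHom)
  have h2 : algebraMap (ZMod 7) F (φ w) = 0 := h1
  exact (map_eq_zero_iff _ (algebraMap (ZMod 7) F).injective).1 h2

theorem dual_nontrivial [CharP F 7] (h7 : ∀ x : W, 7 • x = 0) [Nontrivial W] : Nontrivial (W →+ F) := by
  obtain ⟨w, hw⟩ := exists_ne (0 : W)
  by_contra hne
  rw [not_nontrivial_iff_subsingleton] at hne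
  exact hw (dual_sep (F := F) h7 fun f => by rw [Subsingleton.elim f 0]; rfl)

theorem finite_dual [Finite F] [Finite W] : Finite (W →+ F) :=
  Finite.of_injective (fun f => (f : W → F)) DFunLike.coe_injective

end dual

variable {F : Type u} [Field F] [Fintype F] [CharP F 7]

omit [Fintype F] in
theorem two_ne : (2 : F) ≠ 0 := by
  intro h
  have h7 := seven (F := F)
  apply one_ne_zero (α := F)
  linear_combination h7 - 3 * h

omit [Fintype F] in
theorem int_ne {m : ℤ} (hm : ¬ (7 : ℤ) ∣ m) : (m : F) ≠ 0 := by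
  intro h
  exact hm (by exact_mod_cast (CharP.intCast_eq_zero_iff F 7 m).1 h)

/-- operators on irreducible modules -/
theorem irr_zero {Y : Type*} [AddCommGroup Y] [Module F Y] [Finite Y] {σ : Representation F (Om5 F) Y} (hz : NZ σ)
    (hi : Irr σ) {ι : Type*} (s : Finset ι) (θ : ι → ℤ) (x : ι → Om5 F) (hsum : ∑ i ∈ s, θ i = 0)
    (hnat : ∀ v : J5 → F, ∑ i ∈ s, (θ i : F) • Om5.mat (x i) *ᵥ v = 0) (y : Y) : op s θ x σ y = 0 := by
  refine transfer (rhoOmega_surjective two_ne) (piO two_ne) natRep_nz (natRep_irr two_ne) hz hi (natRep_nontriv two_ne) s θ x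
    (Or.inr ?_) hnat y
  rw [← Int.cast_sum, hsum, Int.cast_zero]

theorem op_zero {W : Type w} [AddCommGroup W] [Finite W] [DistribMulAction (Om5 F) W] (h7 : ∀ x : W, 7 • x = 0)
    (hN : NormZero 7 (Om5 F) W) {ι : Type*} (s : Finset ι) (θ : ι → ℤ) (x : ι → Om5 F) {m : ℤ} (hm : ¬ (7 : ℤ) ∣ m)
    (hsum : ∑ i ∈ s, θ i = 0)
    (hsq : ∀ z : W, ∑ i ∈ s, θ i • x i • ∑ j ∈ s, θ j • x j • z = m • ∑ i ∈ s, θ i • x i • z)
    (hnat : ∀ v : J5 → F, ∑ i ∈ s, (θ i : F) • Om5.mat (x i)⁻¹ *ᵥ v = 0) (z : W) : ∑ i ∈ s, θ i • x i • z = 0 := by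
  have hfin : Finite (W →+ F) := finite_dual
  have hfP : Finite (Om5 F) := inferInstance
  have hop : ∀ (f : W →+ F) (z : W), op s θ (fun i => (x i)⁻¹) (dualRep F (Om5 F) W) f z = f (∑ i ∈ s, θ i • x i • z) := by
    intro f z
    rw [op, AddMonoidHom.finsetSum_apply, map_sum]
    refine Finset.sum_congr rfl fun i _ => ?_
    change (θ i : F) • f (((x i)⁻¹)⁻¹ • z) = _
    rw [inv_inv, map_zsmul, smul_eq_mul, zsmul_eq_mul]
  have key := red (F := F) (P := Om5 F) s θ (fun i => (x i)⁻¹) m (int_ne hm)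
    (fun Y _ _ _ σ hz hi y => irr_zero hz hi s θ _ hsum hnat y) _ (W →+ F) (dualRep F (Om5 F) W) rfl (dualRep_nz hN) (by
      intro f
      ext z
      rw [hop, hop, hsq, map_zsmul]
      change _ = (m : F) • (op s θ (fun i => (x i)⁻¹) (dualRep F (Om5 F) W) f z)
      rw [hop, smul_eq_mul, zsmul_eq_mul])
  refine dual_sep (F := F) h7 fun f => ?_
  rw [← hop, key]
  rfl

/-! ### the statements -/

theorem card_smul_eq {W : Type*} [AddCommGroup W] (h7 : ∀ x : W, 7 • x = 0) {m : ℤ} (hm : ¬ (7 : ℤ) ∣ m) {x : W}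
    (h : m • x = 0) : x = 0 := by
  have hp : Prime (7 : ℤ) := by norm_num
  have hc : IsCoprime (7 : ℤ) m := (Prime.coprime_iff_not_dvd hp).2 hm
  obtain ⟨a, b, hab⟩ := hc
  calc x = (a * 7 + b * m) • x := by rw [hab, one_smul]
    _ = 0 := by
      rw [add_smul, mul_smul, mul_smul, h, smul_zero, add_zero]
      have : (7 : ℤ) • x = 0 := by exact_mod_cast h7 x
      rw [this, smul_zero]

theorem nastmt : NAStmt.{w} F := by
  classical
  intro W _ _ _ h7 hN H χ hH hχ hnat x hx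
  have hm : ¬ (7 : ℤ) ∣ (Nat.card ↥H : ℤ) := by exact_mod_cast hH
  have : Fintype ↥H := Fintype.ofFinite _
  have hχm : ∀ a b : ↥H, ((χ (a * b) : ℤˣ) : ℤ) = ((χ a : ℤˣ) : ℤ) * ((χ b : ℤˣ) : ℤ) := by
    intro a b; rw [map_mul, Units.val_mul]
  have hχsq : ∀ a : ↥H, ((χ a : ℤˣ) : ℤ) * ((χ a : ℤˣ) : ℤ) = 1 := fun a => by
    rcases Int.units_eq_one_or (χ a) with h | h <;> rw [h] <;> norm_num
  have hχinv : ∀ a : ↥H, ((χ a⁻¹ : ℤˣ) : ℤ) = ((χ a : ℤˣ) : ℤ) := fun a => by
    rw [map_inv]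
    rcases Int.units_eq_one_or (χ a) with h | h <;> rw [h] <;> norm_num
  -- equivariance
  have heq : ∀ (k : ↥H) (z : W), (k : Om5 F) • ∑ h : ↥H, ((χ h : ℤˣ) : ℤ) • (h : Om5 F) • z =
      ((χ k : ℤˣ) : ℤ) • ∑ h : ↥H, ((χ h : ℤˣ) : ℤ) • (h : Om5 F) • z := by
    intro k z
    rw [Finset.smul_sum, Finset.smul_sum, ← Equiv.sum_comp (Equiv.mulLeft k)
      (fun h : ↥H => ((χ k : ℤˣ) : ℤ) • ((χ h : ℤˣ) : ℤ) • (h : Om5 F) • z)]
    refine Finset.sum_congr rfl fun h _ => ?_
    rw [smul_comm (k : Om5 F), Equiv.coe_mulLeft, hχm, smul_smul ((χ k : ℤˣ) : ℤ), ← mul_assoc, hχsq, one_mul,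
      Subgroup.coe_mul, mul_smul]
  have key := op_zero (F := F) h7 hN (Finset.univ : Finset ↥H) (fun h => ((χ h : ℤˣ) : ℤ)) (fun h => (h : Om5 F)) hm
    (by
      obtain ⟨k, hk⟩ : ∃ k : ↥H, χ k ≠ 1 := by
        by_contra hne
        push Not at hne
        exact hχ (MonoidHom.ext hne)
      have hk1 : ((χ k : ℤˣ) : ℤ) = -1 := by
        rcases Int.units_eq_one_or (χ k) with h | h
        · exact absurd h hk
        · rw [h]; norm_num
      have h1 := Equiv.sum_comp (Equiv.mulLeft k) (fun h : ↥H => ((χ h : ℤˣ) : ℤ))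
      simp only [Equiv.coe_mulLeft, hχm, hk1, ← Finset.mul_sum] at h1
      linarith)
    (by
      intro z
      have h1 : ∀ h : ↥H, ((χ h : ℤˣ) : ℤ) • (h : Om5 F) • (∑ j : ↥H, ((χ j : ℤˣ) : ℤ) • (j : Om5 F) • z) =
          ∑ j : ↥H, ((χ j : ℤˣ) : ℤ) • (j : Om5 F) • z := by
        intro h
        rw [heq, smul_smul, hχsq, one_smul]
      simp only [h1]
      rw [Finset.sum_const, Finset.card_univ, ← Nat.card_eq_fintype_card, natCast_zsmul])
    (by
      intro v
      refine hnat _ fun k => ?_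
      rw [Matrix.mulVec_sum, Finset.smul_sum, ← Equiv.sum_comp (Equiv.mulRight k⁻¹)
        (fun h : ↥H => ((χ k : ℤˣ) : ℤ) • (((χ h : ℤˣ) : ℤ) : F) • Om5.mat (h : Om5 F)⁻¹ *ᵥ v)]
      refine Finset.sum_congr rfl fun h _ => ?_
      rw [Equiv.coe_mulRight, hχm, hχinv, Subgroup.coe_mul, Subgroup.coe_inv, _root_.mul_inv_rev, inv_inv, mat_mul,
        ← Matrix.mulVec_mulVec, Matrix.mulVec_smul, ← Int.cast_smul_eq_zsmul F, smul_smul, ← Int.cast_mul]
      congr 2
      rw [mul_comm, mul_assoc, hχsq, mul_one])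
    x
  refine card_smul_eq h7 hm ?_
  rw [← key]
  have h1 : ∀ h : ↥H, ((χ h : ℤˣ) : ℤ) • (h : Om5 F) • x = x := by
    intro h
    rw [hx h, smul_smul, hχsq, one_smul]
  simp only [h1]
  rw [Finset.sum_const, Finset.card_univ, ← Nat.card_eq_fintype_card, natCast_zsmul]

theorem sum_fix {G M : Type*} [Group G] [AddCommMonoid M] [DistribMulAction G M] (H : Subgroup G) [Fintype ↥H] {k : G}
    (hk : k ∈ H) (z : M) : k • ∑ h : ↥H, (h : G) • z = ∑ h : ↥H, (h : G) • z := by
  rw [Finset.smul_sum, ← Equiv.sum_comp (Equiv.mulLeft (⟨k, hk⟩ : ↥H)) (fun h : ↥H => (h : G) • z)]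
  refine Finset.sum_congr rfl fun h _ => ?_
  rw [Equiv.coe_mulLeft, Subgroup.coe_mul, mul_smul]

theorem sum_fix_right {G M : Type*} [Group G] [AddCommMonoid M] [DistribMulAction G M] (H : Subgroup G) [Fintype ↥H] {k : G}
    (hk : k ∈ H) (z : M) : ∑ h : ↥H, (h : G) • k • z = ∑ h : ↥H, (h : G) • z := by
  rw [← Equiv.sum_comp (Equiv.mulRight (⟨k, hk⟩ : ↥H)) (fun h : ↥H => (h : G) • z)]
  refine Finset.sum_congr rfl fun h _ => ?_
  rw [Equiv.coe_mulRight, Subgroup.coe_mul, mul_smul]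

omit [Fintype F] [CharP F 7] in
theorem nat_sum_zero (H : Subgroup (Om5 F)) [Fintype ↥H]
    (h : ∀ x : J5 → F, (∀ k ∈ H, (Om5.mat k).mulVec x = x) → x = 0) (v : J5 → F) :
    ∑ k : ↥H, Om5.mat (k : Om5 F)⁻¹ *ᵥ v = 0 := by
  refine h _ fun k hk => ?_
  rw [Matrix.mulVec_sum, ← Equiv.sum_comp (Equiv.mulRight (⟨k, hk⟩⁻¹ : ↥H))
    (fun h : ↥H => Om5.mat (h : Om5 F)⁻¹ *ᵥ v)]
  refine Finset.sum_congr rfl fun h _ => ?_
  rw [Equiv.coe_mulRight, Subgroup.coe_mul, Subgroup.coe_inv, _root_.mul_inv_rev, inv_inv, mat_mul,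
    ← Matrix.mulVec_mulVec]

theorem nbstmt : NBStmt.{w} F := by
  classical
  intro W _ _ _ h7 hN H H' hle hH' hnat x hx
  have : Fintype ↥H := Fintype.ofFinite _
  have : Fintype ↥H' := Fintype.ofFinite _
  have hH : ¬ 7 ∣ Nat.card ↥H := fun hd => hH' (hd.trans (Subgroup.card_dvd_of_le hle))
  have hm' : ¬ (7 : ℤ) ∣ (Nat.card ↥H' : ℤ) := by exact_mod_cast hH'
  have hm : ¬ (7 : ℤ) ∣ (Nat.card ↥H : ℤ) := by exact_mod_cast hH
  have hp : Prime (7 : ℤ) := by norm_num
  have hmm : ¬ (7 : ℤ) ∣ ((Nat.card ↥H : ℤ) * Nat.card ↥H') := fun hd => (hp.dvd_or_dvd hd).elim hm hm'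
  set E : W → W := fun z => ∑ h : ↥H, (h : Om5 F) • z with hE
  set E' : W → W := fun z => ∑ h : ↥H', (h : Om5 F) • z with hE'
  have hEE : ∀ z, E (E z) = (Nat.card ↥H : ℤ) • E z := by
    intro z
    simp only [hE]
    rw [Finset.sum_congr rfl fun h _ => sum_fix H h.2 z, Finset.sum_const, Finset.card_univ, ← Nat.card_eq_fintype_card,
      natCast_zsmul]
  have hEE' : ∀ z, E' (E' z) = (Nat.card ↥H' : ℤ) • E' z := by
    intro z
    simp only [hE']
    rw [Finset.sum_congr rfl fun h _ => sum_fix H' h.2 z, Finset.sum_const, Finset.card_univ, ← Nat.card_eq_fintype_card,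
      natCast_zsmul]
  have h12 : ∀ z, E (E' z) = (Nat.card ↥H : ℤ) • E' z := by
    intro z
    simp only [hE, hE']
    rw [Finset.sum_congr rfl fun h _ => sum_fix H' (hle h.2) z, Finset.sum_const, Finset.card_univ,
      ← Nat.card_eq_fintype_card, natCast_zsmul]
  have h21 : ∀ z, E' (E z) = (Nat.card ↥H : ℤ) • E' z := by
    intro z
    simp only [hE, hE']
    have e1 : ∀ y : ↥H, ∑ x : ↥H', (x : Om5 F) • (y : Om5 F) • z = ∑ x : ↥H', (x : Om5 F) • z :=
      fun y => sum_fix_right H' (hle y.2) z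
    rw [Finset.sum_congr rfl fun (x : ↥H') _ => Finset.smul_sum (r := (x : Om5 F)) (s := (Finset.univ : Finset ↥H))
      (f := fun y : ↥H => (y : Om5 F) • z), Finset.sum_comm]
    simp only [e1]
    rw [Finset.sum_const, Finset.card_univ, ← Nat.card_eq_fintype_card, natCast_zsmul]
  have hEs : ∀ z z', E (z - z') = E z - E z' := fun z z' => by
    simp only [hE, smul_sub, Finset.sum_sub_distrib]
  have hEs' : ∀ z z', E' (z - z') = E' z - E' z' := fun z z' => by
    simp only [hE', smul_sub, Finset.sum_sub_distrib]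
  have hEz : ∀ (m : ℤ) z, E (m • z) = m • E z := fun m z => by
    simp only [hE, Finset.smul_sum]
    exact Finset.sum_congr rfl fun h _ => smul_comm _ _ _
  have hEz' : ∀ (m : ℤ) z, E' (m • z) = m • E' z := fun m z => by
    simp only [hE', Finset.smul_sum]
    exact Finset.sum_congr rfl fun h _ => smul_comm _ _ _
  set θ : ↥H ⊕ ↥H' → ℤ := Sum.elim (fun _ => (Nat.card ↥H' : ℤ)) (fun _ => -(Nat.card ↥H : ℤ)) with hθ
  set xx : ↥H ⊕ ↥H' → Om5 F := Sum.elim (fun h => (h : Om5 F)) (fun h => (h : Om5 F)) with hxx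
  have hT : ∀ z : W, ∑ i, θ i • xx i • z = (Nat.card ↥H' : ℤ) • E z - (Nat.card ↥H : ℤ) • E' z := by
    intro z
    rw [Fintype.sum_sum_type]
    simp only [hθ, hxx, Sum.elim_inl, Sum.elim_inr, neg_smul, Finset.sum_neg_distrib, hE, hE', Finset.smul_sum]
    rw [sub_eq_add_neg]
  have key := op_zero (F := F) h7 hN (Finset.univ : Finset (↥H ⊕ ↥H')) θ xx hmm
    (by
      rw [Fintype.sum_sum_type]
      simp only [hθ, Sum.elim_inl, Sum.elim_inr, Finset.sum_const, Finset.card_univ, ← Nat.card_eq_fintype_card]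
      simp only [nsmul_eq_mul]
      ring)
    (by
      intro z
      rw [hT, hT, hEs, hEs', hEz, hEz, hEz', hEz', hEE, hEE', h12, h21]
      simp only [smul_sub, smul_smul]
      module)
    (by
      intro v
      rw [Fintype.sum_sum_type]
      simp only [hθ, hxx, Sum.elim_inl, Sum.elim_inr, ← Finset.smul_sum]
      rw [nat_sum_zero H hnat, nat_sum_zero H' (fun y hy => hnat y fun k hk => hy k (hle hk)), smul_zero, smul_zero,
        add_zero])
    x
  rw [hT] at key
  have hEx : E x = (Nat.card ↥H : ℤ) • x := by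
    simp only [hE]
    rw [Finset.sum_congr rfl fun (h : ↥H) _ => hx (h : Om5 F) h.2, Finset.sum_const, Finset.card_univ, ← Nat.card_eq_fintype_card,
      natCast_zsmul]
  rw [hEx] at key
  have h1 : (Nat.card ↥H : ℤ) • ((Nat.card ↥H' : ℤ) • x - E' x) = 0 := by
    rw [← key, smul_sub, smul_comm]
  have h2 : (Nat.card ↥H' : ℤ) • x = E' x := sub_eq_zero.1 (card_smul_eq h7 hm h1)
  intro h hh
  have h3 : (Nat.card ↥H' : ℤ) • (h • x - x) = 0 := by
    rw [smul_sub, smul_comm, h2]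
    simp only [hE']
    rw [sum_fix H' hh, sub_self]
  exact sub_eq_zero.1 (card_smul_eq h7 hm' h3)

/-! ### fixed vectors -/

omit [Fintype F] [CharP F 7] in
theorem exists_irr_sub {P : Type*} [Group P] : ∀ (n : ℕ) (Y : Type w) [AddCommGroup Y] [Module F Y] [Finite Y]
    [Nontrivial Y] (σ : Representation F P Y), Nat.card Y = n → NZ σ →
    ∃ (Y' : Type w) (_ : AddCommGroup Y') (_ : Module F Y') (_ : Finite Y') (σ' : Representation F P Y') (j : Y' →ₗ[F] Y),
      NZ σ' ∧ Irr σ' ∧ Function.Injective j ∧ ∀ g y, j (σ' g y) = σ g (j y) := by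
  intro n
  induction n using Nat.strong_induction_on with
  | _ n ih =>
    intro Y _ _ _ hnt σ hn hz
    by_cases hi : Irr σ
    · exact ⟨Y, _, _, inferInstance, σ, LinearMap.id, hz, hi, Function.injective_id, fun _ _ => rfl⟩
    rw [Irr] at hi
    push Not at hi
    obtain ⟨W, hW, hW0, hW1⟩ := hi hnt
    let σW : Representation F P ↥W :=
      { toFun := fun g => (σ g).restrict (hW g)
        map_one' := by ext; simp
        map_mul' := fun a b => by ext; simp }
    have hntW : Nontrivial ↥W := Submodule.nontrivial_iff_ne_bot.2 hW0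
    have hfQ : Finite (Y ⧸ W) := Finite.of_surjective W.mkQ W.mkQ_surjective
    have hcard : Nat.card Y = Nat.card ↥W * Nat.card (Y ⧸ W) := Submodule.card_eq_card_quotient_mul_card W
    have hc1 : 1 < Nat.card ↥W := Finite.one_lt_card
    have hc2 : 1 < Nat.card (Y ⧸ W) := by
      have : Nontrivial (Y ⧸ W) := Submodule.Quotient.nontrivial_iff.2 hW1
      exact Finite.one_lt_card
    have hcardW : Nat.card ↥W < n := by
      rw [← hn, hcard]
      exact lt_mul_of_one_lt_right (by omega) hc2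
    obtain ⟨Y', i1, i2, i3, σ', j, h1, h2, h3, h4⟩ := ih _ hcardW ↥W σW rfl (by
      intro u hu w
      apply Subtype.ext
      rw [AddSubmonoidClass.coe_finsetSum, ZeroMemClass.coe_zero, ← hz u hu (w : Y)]
      rfl)
    refine ⟨Y', i1, i2, i3, σ', W.subtype.comp j, h1, h2, W.injective_subtype.comp h3, fun g y => ?_⟩
    change ((j (σ' g y) : ↥W) : Y) = _
    rw [h4]
    rfl

theorem nc_om {W : Type w} [AddCommGroup W] [Finite W] [Nontrivial W] [DistribMulAction (Om5 F) W]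
    (h7 : ∀ x : W, 7 • x = 0) (hN : NormZero 7 (Om5 F) W) (h : Om5 F) (ho : ¬ 7 ∣ orderOf h) :
    ∃ x : W, x ≠ 0 ∧ h • x = x := by
  by_contra hcon
  push Not at hcon
  have hfin : Finite (W →+ F) := finite_dual
  have hnt : Nontrivial (W →+ F) := dual_nontrivial h7
  have hpow : ∀ z : W, ∑ i ∈ Finset.range (orderOf h), (h ^ i)⁻¹ • z = 0 := by
    intro z
    by_contra hne
    apply hcon _ hne
    have e1 : ∀ i : ℕ, (h ^ i)⁻¹ • z = (h⁻¹) ^ i • z := fun i => by rw [inv_pow]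
    simp only [e1]
    have e2 : h⁻¹ • ∑ i ∈ Finset.range (orderOf h), (h⁻¹) ^ i • z = ∑ i ∈ Finset.range (orderOf h), (h⁻¹) ^ i • z := by
      rw [Finset.smul_sum]
      simp only [← mul_smul, ← pow_succ']
      have e3 := Finset.sum_range_succ' (fun i => (h⁻¹) ^ i • z) (orderOf h)
      rw [Finset.sum_range_succ, ← orderOf_inv, pow_orderOf_eq_one, pow_zero] at e3
      rw [← orderOf_inv]
      exact (add_right_cancel e3).symm
    rw [← e2, smul_inv_smul, e2]
  obtain ⟨Y', i1, i2, i3, σ', j, hz, hi, hj, hjσ⟩ := exists_irr_sub (F := F) _ (W →+ F) (dualRep F (Om5 F) W) rfl (dualRep_nz hN)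
  have hT : ∀ y : Y', ∑ i ∈ Finset.range (orderOf h), ((1 : ℤ) : F) • σ' (h ^ i) y = 0 := by
    intro y
    apply hj
    rw [map_zero, map_sum]
    ext z
    rw [AddMonoidHom.finsetSum_apply, AddMonoidHom.zero_apply]
    simp only [Int.cast_one, one_smul, hjσ, dualRep_apply]
    rw [← map_sum, hpow, map_zero]
  have hn : ((orderOf h : ℕ) : F) ≠ 0 := fun h0 => ho ((CharP.cast_eq_zero_iff F 7 _).1 h0)
  by_cases htr : ∀ g y, σ' g y = y
  · have := hi.1
    obtain ⟨y, hy⟩ := exists_ne (0 : Y')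
    have h1 := hT y
    simp only [Int.cast_one, one_smul, htr] at h1
    rw [Finset.sum_const, Finset.card_range, ← Nat.cast_smul_eq_nsmul F] at h1
    exact hy ((smul_eq_zero.1 h1).resolve_left hn)
  · obtain ⟨v, hv, hv'⟩ := exists_fix two_ne h
    have h1 := transfer (rhoOmega_surjective two_ne) (piO two_ne) hz hi natRep_nz (natRep_irr two_ne) htr
      (Finset.range (orderOf h)) (fun _ => (1 : ℤ)) (fun i => h ^ i) (Or.inl (by
        have := natRep_nontriv (F := F) two_ne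
        push Not at this
        exact this)) hT v
    have h2 : ∀ i : ℕ, natRep F (h ^ i) v = v := by
      intro i
      induction i with
      | zero => rw [pow_zero, map_one]; rfl
      | succ i ih => rw [pow_succ, map_mul, Module.End.mul_apply, natRep_apply h, hv', ih]
    simp only [h2, Int.cast_one, one_smul] at h1
    rw [Finset.sum_const, Finset.card_range, ← Nat.cast_smul_eq_nsmul F] at h1
    exact hv ((smul_eq_zero.1 h1).resolve_left hn)

/-- `PSp₄(F) ≃ Ω₅(F)` -/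
theorem exists_iso : Nonempty (PSp 2 F ≃* Om5 F) := by
  set ψ := rhoOmega (F := F) two_ne with hψ
  have hker : ψ.ker = Subgroup.center (Matrix.symplecticGroup (Fin 2) F) := by
    ext g
    rw [MonoidHom.mem_ker, hψ, piO, ← piP, QuotientGroup.mk'_apply, QuotientGroup.eq_one_iff]
  exact ⟨(QuotientGroup.quotientMulEquivOfEq hker.symm).trans
    (QuotientGroup.quotientKerEquivOfSurjective ψ (rhoOmega_surjective two_ne))⟩

theorem ncstmt : NCStmt.{w} F := by
  intro W _ _ _ _ h7 hN h ho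
  obtain ⟨e⟩ := exists_iso (F := F)
  let _ : DistribMulAction (Om5 F) W := DistribMulAction.compHom W e.symm.toMonoidHom
  have hsm : ∀ (g : Om5 F) (x : W), g • x = e.symm g • x := fun _ _ => rfl
  obtain ⟨x, hx, hx'⟩ := nc_om (F := F) (W := W) h7 (by
    intro u hu z
    have h1 := hN (e.symm u) (by rw [MulEquiv.orderOf_eq, hu]) z
    rw [← h1]
    refine Finset.sum_congr rfl fun i _ => ?_
    rw [hsm, map_pow]) (e h) (by rw [MulEquiv.orderOf_eq]; exact ho)
  refine ⟨x, hx, ?_⟩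
  rw [hsm, MulEquiv.symm_apply_apply] at hx'
  exact hx'

end Cfsg.Agent.H214.Coef
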